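import Mathlib.GroupTheory.GroupAction.Quotient
import Mathlib.GroupTheory.PGroup
import Mathlib.Tactic.Linarith
import Mathlib.Tactic.Ring
import Mathlib.Tactic.Group

/-!
# Counting lemmas for an abelian group of order `p ^ n - 1` acting freely on small sets
-/

set_option autoImplicit false

namespace CfsgLib.OneClassDerived

/-- If every point has the stabiliser `D`, then the index of `D` divides the number of points. -/
theorem index_dvd_card {C α : Type*} [Group C] [Finite C] [MulAction C α] [Finite α] (D : Subgroup C)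
    (h : ∀ a : α, MulAction.stabilizer C a = D) : D.index ∣ Nat.card α := by
  classical
  haveI : Fintype α := Fintype.ofFinite α
  haveI : Fintype (Quotient (MulAction.orbitRel C α)) := Fintype.ofFinite _
  rw [Nat.card_congr (MulAction.selfEquivSigmaOrbitsQuotientStabilizer C α)]
  rw [Nat.card_sigma]
  refine Finset.dvd_sum fun ω _ => ?_
  rw [h, Subgroup.index_eq_card]

/-- `p ^ n - 1` is no product of divisors of `p ^ d - 1` and `p ^ k - 1` for `d, k < n`. -/
theorem false_of_dvd {p n d k t D : ℕ} (hp : 2 ≤ p) (hd : 0 < d) (hdn : d < n) (hk : 0 < k)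
    (hkn : k < n) (ht : t ∣ p ^ d - 1) (hD : D ∣ p ^ k - 1) (hmul : D * t = p ^ n - 1) : False := by
  have ht' : t ∣ p ^ Nat.gcd d n - 1 := by
    rw [← Nat.pow_sub_one_gcd_pow_sub_one]
    exact Nat.dvd_gcd ht ⟨D, by rw [← hmul, mul_comm]⟩
  have hD' : D ∣ p ^ Nat.gcd k n - 1 := by
    rw [← Nat.pow_sub_one_gcd_pow_sub_one]
    exact Nat.dvd_gcd hD ⟨t, hmul.symm⟩
  have half : ∀ e, 0 < e → e < n → e ∣ n → 2 * e ≤ n := by
    intro e he hen hdvd
    obtain ⟨c, rfl⟩ := hdvd
    have : 2 ≤ c := by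
      rcases c with _ | _ | c <;> simp_all
    nlinarith
  have h1 := half _ (Nat.gcd_pos_of_pos_left n hd)
    (lt_of_le_of_lt (Nat.le_of_dvd hd (Nat.gcd_dvd_left d n)) hdn) (Nat.gcd_dvd_right d n)
  have h2 := half _ (Nat.gcd_pos_of_pos_left n hk)
    (lt_of_le_of_lt (Nat.le_of_dvd hk (Nat.gcd_dvd_left k n)) hkn) (Nat.gcd_dvd_right k n)
  set e := Nat.gcd d n
  set f := Nat.gcd k n
  have he : 1 ≤ e := Nat.gcd_pos_of_pos_left n hd
  have hf : 1 ≤ f := Nat.gcd_pos_of_pos_left n hk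
  have he2 : 2 ≤ p ^ e := le_trans hp (Nat.le_self_pow (by omega) p)
  have hf2 : 2 ≤ p ^ f := le_trans hp (Nat.le_self_pow (by omega) p)
  have hle : D * t ≤ (p ^ f - 1) * (p ^ e - 1) :=
    Nat.mul_le_mul (Nat.le_of_dvd (by omega) hD') (Nat.le_of_dvd (by omega) ht')
  have hpow : p ^ f * p ^ e ≤ p ^ n := by
    rw [← pow_add]; exact Nat.pow_le_pow_right (by omega) (by omega)
  obtain ⟨x, hx⟩ : ∃ x, p ^ f = x + 2 := ⟨p ^ f - 2, by omega⟩
  obtain ⟨y, hy⟩ : ∃ y, p ^ e = y + 2 := ⟨p ^ e - 2, by omega⟩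
  rw [hmul, hx, hy] at hle
  rw [hx, hy] at hpow
  rw [show x + 2 - 1 = x + 1 by omega, show y + 2 - 1 = y + 1 by omega] at hle
  have h3 : p ^ n ≤ (x + 1) * (y + 1) + 1 := by omega
  nlinarith

end CfsgLib.OneClassDerived
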