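import Cfsg.Agent.Lib.OneClassDerived.Arith
import Mathlib.GroupTheory.Commutator.Basic
import Mathlib.GroupTheory.Nilpotent

/-!
# Camina `p`-groups with an abelian operator group transitive on the Frattini quotient

If `T` is a normal `p`-subgroup in which every element outside `T'` has class `x T'`, and an abelian
group of order `[T : T'] - 1` acts freely on `T / T'`, then `T` has class at most two; hence some
element outside `T'` has order `p`, or order dividing four if `p = 2`.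
-/

set_option autoImplicit false

namespace CfsgLib.OneClassDerived

open Subgroup
open scoped commutatorElement

variable {G : Type*} [Group G] [Finite G]

/-- The data: classes in `T` outside `T'` are the cosets of `T'`. -/
def CosetClasses (T : Subgroup G) : Prop :=
  ∀ x ∈ T, x ∉ ⁅T, T⁆ → ∀ u ∈ ⁅T, T⁆, ∃ t ∈ T, t * x * t⁻¹ = x * u

theorem commutatorElement_conj_eq (x t : G) : ⁅x⁻¹, t⁆ = x⁻¹ * t * x * t⁻¹ := by
  rw [commutatorElement_def, inv_inv]

/-- The quotient of `T'` by a subgroup containing `[T', T]` is smaller than `T / T'`. -/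
theorem card_derived_lt (T : Subgroup G) (hcam : CosetClasses T) (Z : Subgroup G) [Z.Normal]
    (hZQ : Z ≤ ⁅T, T⁆) (hZ : ⁅⁅T, T⁆, T⁆ ≤ Z) {x : G} (hxT : x ∈ T) (hxQ : x ∉ ⁅T, T⁆) :
    Nat.card (⁅T, T⁆ : Subgroup G) * Nat.card (⁅T, T⁆ : Subgroup G) < Nat.card T * Nat.card Z := by
  set Q := ⁅T, T⁆ with hQ
  have hQT : Q ≤ T := commutator_le.2 fun a ha b hb =>
    mul_mem (mul_mem (mul_mem ha hb) (inv_mem ha)) (inv_mem hb)
  have hmem : ∀ t ∈ T, x⁻¹ * t * x * t⁻¹ ∈ Q := fun t ht => by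
    rw [← commutatorElement_conj_eq]; exact commutator_mem_commutator (inv_mem hxT) ht
  have hfix : ∀ t ∈ T, ∀ u ∈ Q, ((t * u * t⁻¹ : G) : G ⧸ Z) = (u : G ⧸ Z) := fun t ht u hu => by
    rw [QuotientGroup.eq, show (t * u * t⁻¹)⁻¹ * u = t * (u⁻¹ * (t⁻¹ * u * t)) * t⁻¹ by group]
    refine Normal.conj_mem inferInstance _ ?_ _
    have h := hZ (commutator_mem_commutator (inv_mem hu) (inv_mem ht))
    rw [commutatorElement_def] at h
    simpa [mul_assoc] using h
  let φ : T →* G ⧸ Z := MonoidHom.mk' (fun t => ((x⁻¹ * t * x * (t : G)⁻¹ : G) : G ⧸ Z))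
    fun s t => by
      have hdec : x⁻¹ * ((s : G) * t) * x * ((s : G) * t)⁻¹ =
          (x⁻¹ * s * x * (s : G)⁻¹) * ((s : G) * (x⁻¹ * t * x * (t : G)⁻¹) * (s : G)⁻¹) := by group
      show (((x⁻¹ * ((s * t : T) : G) * x * ((s * t : T) : G)⁻¹ : G)) : G ⧸ Z) = _
      rw [coe_mul, hdec, QuotientGroup.mk_mul, hfix s s.2 _ (hmem t t.2)]
  have hrange : φ.range = Q.map (QuotientGroup.mk' Z) := by
    ext y
    constructor
    · rintro ⟨t, rfl⟩
      exact ⟨_, hmem t t.2, rfl⟩
    · rintro ⟨u, hu, rfl⟩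
      obtain ⟨t, ht, htu⟩ := hcam x hxT hxQ u hu
      have e : x⁻¹ * t * x * t⁻¹ = u := by
        rw [show x⁻¹ * t * x * t⁻¹ = x⁻¹ * (t * x * t⁻¹) by group, htu, inv_mul_cancel_left]
      exact ⟨⟨t, ht⟩, congrArg (QuotientGroup.mk' Z) e⟩
  have hker : Q.subgroupOf T < φ.ker := by
    refine lt_of_le_of_ne (fun u hu => ?_) fun h => hxQ ?_
    · rw [MonoidHom.mem_ker]
      show ((x⁻¹ * (u : G) * x * (u : G)⁻¹ : G) : G ⧸ Z) = 1
      rw [QuotientGroup.eq_one_iff, ← commutatorElement_conj_eq]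
      exact hZ (commutator_comm Q T ▸ commutator_mem_commutator (inv_mem hxT) (mem_subgroupOf.1 hu))
    · have : (⟨x, hxT⟩ : T) ∈ φ.ker := by
        rw [MonoidHom.mem_ker]
        show ((x⁻¹ * x * x * x⁻¹ : G) : G ⧸ Z) = 1
        simp
      exact mem_subgroupOf.1 (h ▸ this)
  have hkc : Nat.card Q < Nat.card φ.ker := by
    rw [← Nat.card_congr (subgroupOfEquivOfLe hQT).toEquiv]
    refine lt_of_le_of_ne (card_le_of_le hker.le) fun h => hker.ne ?_
    exact eq_of_le_of_card_ge hker.le h.ge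
  have hrc : Nat.card φ.range * Nat.card Z = Nat.card Q := by
    rw [hrange, ← relIndex_ker, QuotientGroup.ker_mk', mul_comm,
      ← Nat.card_congr (subgroupOfEquivOfLe hZQ).toEquiv]
    exact card_mul_index _
  have htot : Nat.card φ.ker * Nat.card φ.range = Nat.card T := by
    rw [← index_ker]; exact card_mul_index _
  have hpos : 0 < Nat.card φ.range := Nat.card_pos
  calc Nat.card Q * Nat.card Q < Nat.card φ.ker * Nat.card Q :=
        Nat.mul_lt_mul_of_pos_right hkc Nat.card_pos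
    _ = Nat.card T * Nat.card Z := by rw [← hrc, ← htot]; ring

/-- An element of `T` outside `T'` has centraliser in `T` of order at most `[T : T']`. -/
theorem card_centralizer_le (T : Subgroup G) (hcam : CosetClasses T) {x : G} (hxT : x ∈ T)
    (hxQ : x ∉ ⁅T, T⁆) :
    Nat.card (centralizer ({x} : Set G) ⊓ T : Subgroup G) * Nat.card (⁅T, T⁆ : Subgroup G) ≤
      Nat.card T := by
  classical
  set Q := ⁅T, T⁆
  choose f hf hfu using fun u : Q => hcam x hxT hxQ u u.2
  let F : (centralizer ({x} : Set G) ⊓ T : Subgroup G) × Q → T :=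
    fun cu => ⟨f cu.2 * cu.1, mul_mem (hf _) cu.1.2.2⟩
  have hF : Function.Injective F := by
    rintro ⟨c, u⟩ ⟨d, v⟩ h
    have h1 : f u * (c : G) = f v * d := congrArg Subtype.val h
    have hc := mem_centralizer_singleton_iff.1 c.2.1
    have hd := mem_centralizer_singleton_iff.1 d.2.1
    have h2 : x * (u : G) = x * v := by
      rw [← hfu u, ← hfu v]
      calc f u * x * (f u)⁻¹ = f u * ((c : G) * x * (c : G)⁻¹) * (f u)⁻¹ := by rw [hc]; group
        _ = (f u * c) * x * (f u * c)⁻¹ := by group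
        _ = (f v * d) * x * (f v * d)⁻¹ := by rw [h1]
        _ = f v * ((d : G) * x * (d : G)⁻¹) * (f v)⁻¹ := by group
        _ = f v * x * (f v)⁻¹ := by rw [hd]; group
    have huv : u = v := Subtype.ext (mul_left_cancel h2)
    subst huv
    simpa using Subtype.ext (mul_left_cancel h1)
  rw [← Nat.card_prod]
  exact Nat.card_le_card_of_injective F hF

/-- The case in which `[T', T]` is central in `T`. -/
theorem derived_central_of_class_three (p : ℕ) [hp : Fact p.Prime] (T : Subgroup G) [T.Normal]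
    (hT : IsPGroup p T) (hne : ⁅T, T⁆ ≠ T) (hcam : CosetClasses T)
    (C : Subgroup G) [IsMulCommutative C]
    (hC : (Nat.card C + 1) * Nat.card (⁅T, T⁆ : Subgroup G) = Nat.card T)
    (hfree : ∀ c ∈ C, ∀ x ∈ T, x ∉ ⁅T, T⁆ → ⁅c, x⁆ ∈ ⁅T, T⁆ → c = 1)
    (h3 : ⁅⁅⁅T, T⁆, T⁆, T⁆ = ⊥) : ⁅⁅T, T⁆, T⁆ = ⊥ := by
  classical
  haveI : Fintype G := Fintype.ofFinite G
  set Q := ⁅T, T⁆ with hQdef
  have hQT : Q ≤ T := commutator_le_left T T
  by_contra hne3
  obtain ⟨x, hxT, hxQ⟩ := SetLike.exists_of_lt (lt_of_le_of_ne hQT hne)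
  set Z := centralizer (T : Set G) ⊓ Q with hZdef
  have hcT : (centralizer (T : Set G)).Normal := inferInstance
  have hQ3Z : ⁅Q, T⁆ ≤ Z := by
    refine le_inf ?_ (commutator_le_left Q T)
    rwa [← commutator_eq_bot_iff_le_centralizer]
  have hZne : Z ≠ Q := fun h => hne3 <| by
    rw [commutator_eq_bot_iff_le_centralizer]
    exact h ▸ inf_le_left
  have hZQ : Z ≤ Q := inf_le_right
  -- orders
  obtain ⟨a, ha⟩ := IsPGroup.iff_card.1 hT
  obtain ⟨b, hb⟩ := IsPGroup.iff_card.1 (hT.to_le hQT)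
  obtain ⟨e, he⟩ := IsPGroup.iff_card.1 (hT.to_le (hZQ.trans hQT))
  have hp2 : 2 ≤ p := hp.out.two_le
  have hba : b < a := by
    refine lt_of_not_ge fun h => hne (eq_of_le_of_card_ge hQT ?_)
    rw [ha, hb]; exact Nat.pow_le_pow_right hp.out.pos h
  set n := a - b
  have hCn : Nat.card C + 1 = p ^ n := by
    refine Nat.eq_of_mul_eq_mul_right (pow_pos hp.out.pos b) ?_
    rw [← hb, hC, ha, hb, ← pow_add, Nat.sub_add_cancel hba.le]
  -- the centre is small
  have hZlt : Nat.card Z < p ^ n := by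
    have hle : Z ⊔ zpowers x ≤ centralizer ({x} : Set G) ⊓ T := by
      refine sup_le (le_inf ?_ (hZQ.trans hQT)) (zpowers_le.2 ⟨?_, hxT⟩)
      · exact inf_le_left.trans (centralizer_le (Set.singleton_subset_iff.2 hxT))
      · exact mem_centralizer_singleton_iff.2 rfl
    have h1 : Nat.card Z < Nat.card (Z ⊔ zpowers x : Subgroup G) := by
      refine lt_of_le_of_ne (card_le_of_le le_sup_left) fun h => hxQ (hZQ ?_)
      rw [eq_of_le_of_card_ge le_sup_left h.ge]
      exact mem_sup_right (mem_zpowers x)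
    have h2 := card_centralizer_le T hcam hxT hxQ
    have h3' := card_le_of_le hle
    rw [← hQdef, hb, ha, ← Nat.sub_add_cancel hba.le, pow_add] at h2
    have := Nat.le_of_mul_le_mul_right h2 (pow_pos hp.out.pos b)
    show Nat.card Z < p ^ (a - b)
    omega
  -- the quotient `Q / Z` is small
  have hQZ : p ^ (b - e) < p ^ n := by
    have h := card_derived_lt T hcam Z hZQ hQ3Z hxT hxQ
    rw [← hQdef, hb, ha, he] at h
    have heb : e ≤ b := (Nat.pow_le_pow_iff_right hp2).1 (hb ▸ he ▸ card_le_of_le hZQ)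
    rw [← pow_add, ← pow_add] at h
    exact Nat.pow_lt_pow_right (by omega) (by have := (Nat.pow_lt_pow_iff_right hp2).1 h; omega)
  -- a minimal invariant subgroup above `Z`
  obtain ⟨U, ⟨hZU, hUQ, hUC⟩, hUmin⟩ := (Set.toFinite
    {U : Subgroup G | Z < U ∧ U ≤ Q ∧ ∀ c ∈ C, ∀ u ∈ U, c * u * c⁻¹ ∈ U}).exists_minimal
    ⟨Q, lt_of_le_of_ne hZQ hZne, le_rfl, fun c _ u hu => Normal.conj_mem inferInstance u hu c⟩
  let π : G →* G ⧸ Z := QuotientGroup.mk' Z
  let Dst : G → Subgroup C := fun u => (centralizer ({π u} : Set (G ⧸ Z))).comap (π.comp C.subtype)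
  have hDst : ∀ u : G, ∀ c : C, c ∈ Dst u ↔ π (c : G) * π u = π u * π (c : G) := fun u c =>
    mem_centralizer_singleton_iff
  have hsame : ∀ l ∈ U, l ∉ Z → ∀ u ∈ U, Dst l ≤ Dst u := by
    intro l hlU hlZ u huU
    let U' := U ⊓ (centralizer ((π.comp C.subtype) '' (Dst l : Set C))).comap π
    have hU' : U' ∈ {U : Subgroup G | Z < U ∧ U ≤ Q ∧ ∀ c ∈ C, ∀ u ∈ U, c * u * c⁻¹ ∈ U} := by
      refine ⟨lt_of_le_of_ne (le_inf hZU.le fun z hz => mem_comap.2 ?_) fun h => hlZ ?_,
        inf_le_left.trans hUQ, fun c hc v hv => ⟨hUC c hc v hv.1, mem_comap.2 ?_⟩⟩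
      · rw [show π z = 1 from (QuotientGroup.eq_one_iff z).2 hz]
        exact one_mem _
      · refine h ▸ (⟨hlU, mem_comap.2 (mem_centralizer_iff.2 ?_)⟩ : l ∈ U')
        rintro _ ⟨d, hd, rfl⟩
        exact (hDst l d).1 hd
      · rw [mem_centralizer_iff]
        rintro _ ⟨d, hd, rfl⟩
        have h1 : π (d : G) * π v = π v * π (d : G) :=
          mem_centralizer_iff.1 (mem_comap.1 hv.2) _ ⟨d, hd, rfl⟩
        have h2 : Commute (π (d : G)) (π c) := by
          rw [Commute, SemiconjBy, ← map_mul, ← map_mul]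
          exact congrArg π (congrArg Subtype.val (mul_comm' d ⟨c, hc⟩))
        rw [map_mul, map_mul, map_inv]
        exact (h2.mul_right h1).mul_right h2.inv_right
    have hUU' : U ≤ U' := hUmin hU' inf_le_left
    intro d hd
    exact (hDst u d).2 (mem_centralizer_iff.1 (mem_comap.1 (hUU' huU).2) _ ⟨d, hd, rfl⟩)
  obtain ⟨l, hlU, hlZ⟩ := SetLike.exists_of_lt hZU
  set D := Dst l with hDdef
  -- orbits on the nontrivial points of `U / Z`
  let P : G ⧸ Z → Prop := fun y => y ∈ U.map π ∧ y ≠ 1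
  have hPc : ∀ (c : C) (y : G ⧸ Z), P y → P (π (c : G) * y * (π (c : G))⁻¹) := by
    rintro c y ⟨⟨u, hu, rfl⟩, hy1⟩
    exact ⟨⟨_, hUC c c.2 u hu, by simp⟩, fun h => hy1 (conj_eq_one_iff.1 h)⟩
  letI : MulAction C {y : G ⧸ Z // P y} :=
    { smul := fun c y => ⟨π (c : G) * y.1 * (π (c : G))⁻¹, hPc c y.1 y.2⟩
      one_smul := fun y => Subtype.ext (show π ((1 : C) : G) * y.1 * (π ((1 : C) : G))⁻¹ = y.1 by simp)
      mul_smul := fun c d y => Subtype.ext
        (show π ((c * d : C) : G) * y.1 * (π ((c * d : C) : G))⁻¹ =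
          π (c : G) * (π (d : G) * y.1 * (π (d : G))⁻¹) * (π (c : G))⁻¹ by simp [mul_assoc]) }
  have hstab : ∀ y : {y : G ⧸ Z // P y}, MulAction.stabilizer C y = D := by
    rintro ⟨_, ⟨u, hu, rfl⟩, hy1⟩
    have huZ : u ∉ Z := fun h => hy1 ((QuotientGroup.eq_one_iff u).2 h)
    rw [hDdef, le_antisymm (hsame l hlU hlZ u hu) (hsame u hu huZ l hlU)]
    ext c
    rw [MulAction.mem_stabilizer_iff, hDst, Subtype.ext_iff]
    show π (c : G) * π u * (π (c : G))⁻¹ = π u ↔ _
    rw [mul_inv_eq_iff_eq_mul]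
  obtain ⟨d, hd⟩ := IsPGroup.iff_card.1 ((hT.to_le (hUQ.trans hQT)).map π)
  have htd : D.index ∣ p ^ d - 1 := by
    have h := index_dvd_card D hstab
    have hcard : Nat.card {y : G ⧸ Z // P y} = p ^ d - 1 := by
      rw [← hd, Nat.card_eq_fintype_card (α := U.map π), Nat.card_eq_fintype_card,
        Fintype.card_subtype, ← Finset.card_univ]
      rw [show (Finset.univ.filter fun y : G ⧸ Z => P y) =
        ((U.map π : Set (G ⧸ Z)).toFinset).erase 1 by
          ext y; rw [Finset.mem_filter, Finset.mem_erase, Set.mem_toFinset, SetLike.mem_coe]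
          simp [P, and_comm],
        Finset.card_erase_of_mem (Set.mem_toFinset.2 (one_mem (U.map π))), Set.toFinset_card,
        Finset.card_univ]
      rfl
    rwa [hcard] at h
  have hd0 : 0 < d := by
    rcases Nat.eq_zero_or_pos d with rfl | h
    · rw [pow_zero, Subgroup.card_eq_one] at hd
      exact absurd ((QuotientGroup.eq_one_iff l).1 (mem_bot.1 (hd ▸ mem_map_of_mem π hlU))) hlZ
    · exact h
  have hdn : d < n := by
    have h1 : Nat.card (U.map π) ≤ Nat.card (Q.map π) := card_le_of_le (map_mono hUQ)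
    have h2 : Nat.card (Q.map π) = p ^ (b - e) := by
      have h := card_mul_index (Z.subgroupOf Q)
      rw [Nat.card_congr (subgroupOfEquivOfLe hZQ).toEquiv, he, hb] at h
      rw [← relIndex_ker, QuotientGroup.ker_mk']
      refine Nat.eq_of_mul_eq_mul_left (pow_pos hp.out.pos e) ?_
      rw [← pow_add, Nat.add_sub_cancel' ((Nat.pow_le_pow_iff_right hp2).1
        (hb ▸ he ▸ card_le_of_le hZQ))]
      exact h
    rw [hd, h2] at h1
    exact (Nat.pow_lt_pow_iff_right hp2).1 (lt_of_le_of_lt h1 hQZ)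
  -- the kernel of the pairing with `l`
  have hlQ : l ∈ Q := hUQ hlU
  have hlz : ∀ t ∈ T, l * t * l⁻¹ * t⁻¹ ∈ Z := fun t ht => by
    rw [← commutatorElement_def]; exact hQ3Z (commutator_mem_commutator hlQ ht)
  have hZc : ∀ z ∈ Z, ∀ t ∈ T, t * z = z * t := fun z hz t ht =>
    mem_centralizer_iff.1 (inf_le_left (b := Q) hz) t ht
  letI hcomm : CommGroup Z :=
    { (inferInstance : Group Z) with
      mul_comm := fun u v => Subtype.ext (hZc v v.2 u (hQT (hZQ u.2))) }
  let ψ : T →* Z := MonoidHom.mk' (fun t => ⟨l * t * l⁻¹ * (t : G)⁻¹, hlz t t.2⟩) fun s t => by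
    refine Subtype.ext ?_
    show l * ((s : G) * t) * l⁻¹ * ((s : G) * t)⁻¹ = _
    calc l * ((s : G) * t) * l⁻¹ * ((s : G) * t)⁻¹
        = (l * s * l⁻¹ * (s : G)⁻¹) * ((s : G) * (l * t * l⁻¹ * (t : G)⁻¹) * (s : G)⁻¹) := by group
      _ = _ := by rw [hZc _ (hlz t t.2) s s.2, mul_inv_cancel_right]; rfl
  set K := ψ.ker.map T.subtype with hKdef
  have hKmem : ∀ t : G, t ∈ K ↔ t ∈ T ∧ l * t * l⁻¹ * t⁻¹ = 1 := by
    intro t
    constructor
    · rintro ⟨s, hs, rfl⟩
      exact ⟨s.2, congrArg Subtype.val (MonoidHom.mem_ker.1 hs)⟩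
    · rintro ⟨ht, h⟩
      exact ⟨⟨t, ht⟩, MonoidHom.mem_ker.2 (Subtype.ext h), rfl⟩
  have hQK : Q ≤ K := by
    rw [hQdef, commutator_le]
    intro s hs t ht
    refine ⟨⁅(⟨s, hs⟩ : T), ⟨t, ht⟩⁆, ?_, rfl⟩
    rw [SetLike.mem_coe, MonoidHom.mem_ker, map_commutatorElement]
    exact commutatorElement_eq_one_iff_commute.2 (Commute.all _ _)
  have hKT : K ≤ T := map_subtype_le _
  obtain ⟨k, hk⟩ := IsPGroup.iff_card.1 (hT.to_le hKT)
  have hKc : Nat.card ψ.ker = p ^ k := by
    rw [← hk, hKdef, card_map_of_injective T.subtype_injective]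
  have hbk : b < k := by
    by_contra h
    have h1 : Nat.card ψ.range ≤ Nat.card Z := card_le_card_group _
    have h2 : Nat.card ψ.ker * Nat.card ψ.range = Nat.card T := by
      rw [← index_ker]; exact card_mul_index _
    rw [hKc, ha] at h2
    have : p ^ k * Nat.card ψ.range < p ^ b * p ^ n :=
      Nat.mul_lt_mul_of_le_of_lt (Nat.pow_le_pow_right hp.out.pos (by omega)) (lt_of_le_of_lt h1 hZlt)
        (pow_pos hp.out.pos b)
    rw [h2, ← pow_add, Nat.add_sub_cancel' hba.le] at this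
    exact lt_irrefl _ this
  have hka : k < a := by
    refine lt_of_not_ge fun h => hlZ ⟨mem_centralizer_iff.2 fun t ht => ?_, hlQ⟩
    have hKeq : K = T := eq_of_le_of_card_ge hKT (by rw [ha, hk]; exact Nat.pow_le_pow_right hp.out.pos h)
    have h1 := ((hKmem t).1 (hKeq ▸ ht)).2
    calc t * l = 1 * t * l := by group
      _ = l * t * l⁻¹ * t⁻¹ * t * l := by rw [h1]
      _ = l * t := by group
  -- orbits of `D` on `K ∖ Q`
  have hKD : ∀ c ∈ D, ∀ t : G, t ∈ K → t ∉ Q → ((c : C) : G) * t * ((c : C) : G)⁻¹ ∈ K ∧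
      ((c : C) : G) * t * ((c : C) : G)⁻¹ ∉ Q := by
    intro c hc t ht htQ
    obtain ⟨htT, htl⟩ := (hKmem t).1 ht
    set g := ((c : C) : G)
    refine ⟨(hKmem _).2 ⟨Normal.conj_mem inferInstance t htT g, ?_⟩, fun h => htQ ?_⟩
    · have h1 : π g * π l = π l * π g := (hDst l c).1 hc
      rw [← map_mul, ← map_mul, QuotientGroup.mk'_apply, QuotientGroup.mk'_apply,
        QuotientGroup.eq] at h1
      obtain ⟨z, hz, hzl⟩ : ∃ z ∈ Z, g * l = l * g * z⁻¹ :=
        ⟨(g * l)⁻¹ * (l * g), h1, by group⟩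
      have hcl : g⁻¹ * l * g = l * (g⁻¹ * (g * z * g⁻¹) * g) := by
        calc g⁻¹ * l * g = g⁻¹ * (l * g * z⁻¹) * z := by group
          _ = g⁻¹ * (g * l) * z := by rw [hzl]
          _ = l * (g⁻¹ * (g * z * g⁻¹) * g) := by group
      have htc : l * t = t * l := by
        calc l * t = (l * t * l⁻¹ * t⁻¹) * t * l := by group
          _ = t * l := by rw [htl, one_mul]
      have hzt : t * z = z * t := hZc z hz t htT
      have hcom : Commute t (g⁻¹ * l * g) := by
        have : g⁻¹ * l * g = l * z := by rw [hcl]; group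
        rw [this]
        exact Commute.mul_right (htc.symm : Commute t l) hzt
      calc l * (g * t * g⁻¹) * l⁻¹ * (g * t * g⁻¹)⁻¹
          = g * ((g⁻¹ * l * g) * t) * (g⁻¹ * l * g)⁻¹ * t⁻¹ * g⁻¹ := by group
        _ = g * (t * (g⁻¹ * l * g)) * (g⁻¹ * l * g)⁻¹ * t⁻¹ * g⁻¹ := by rw [hcom.eq]
        _ = 1 := by group
    · have := Normal.conj_mem (inferInstance : Q.Normal) _ h g⁻¹
      simpa [mul_assoc] using this
  letI : MulAction D {t : G // t ∈ K ∧ t ∉ Q} :=
    { smul := fun c t => ⟨((c : C) : G) * t.1 * ((c : C) : G)⁻¹, hKD c c.2 t.1 t.2.1 t.2.2⟩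
      one_smul := fun t => Subtype.ext
        (show (((1 : D) : C) : G) * t.1 * (((1 : D) : C) : G)⁻¹ = t.1 by simp)
      mul_smul := fun c d t => Subtype.ext
        (show (((c * d : D) : C) : G) * t.1 * (((c * d : D) : C) : G)⁻¹ =
          ((c : C) : G) * (((d : C) : G) * t.1 * ((d : C) : G)⁻¹) * ((c : C) : G)⁻¹ by
            simp [mul_assoc]) }
  have hDk : Nat.card D ∣ p ^ k - p ^ b := by
    have h := index_dvd_card (C := D) (α := {t : G // t ∈ K ∧ t ∉ Q}) ⊥ fun t => by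
      rw [eq_bot_iff]
      intro c hc
      have hc' : ((c : C) : G) * t.1 * ((c : C) : G)⁻¹ = t.1 :=
        congrArg Subtype.val (MulAction.mem_stabilizer_iff.1 hc)
      refine mem_bot.2 (Subtype.ext (Subtype.ext ?_))
      refine hfree _ (c : C).2 t.1 (hKT t.2.1) t.2.2 ?_
      rw [commutatorElement_def, hc', mul_inv_cancel]
      exact one_mem _
    have hcard : Nat.card {t : G // t ∈ K ∧ t ∉ Q} = p ^ k - p ^ b := by
      rw [← hk, ← hb, Nat.card_eq_fintype_card, Fintype.card_subtype,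
        show (Finset.univ.filter fun t : G => t ∈ K ∧ t ∉ Q) =
          (K : Set G).toFinset \ (Q : Set G).toFinset by ext; simp,
        Finset.card_sdiff_of_subset (by simpa using hQK), Set.toFinset_card, Set.toFinset_card,
        Nat.card_eq_fintype_card, Nat.card_eq_fintype_card]
      rfl
    rwa [index_bot, hcard] at h
  have hDn : Nat.card D ∣ p ^ n - 1 := by
    rw [show p ^ n - 1 = Nat.card C by omega]; exact card_subgroup_dvd_card D
  have hDk' : Nat.card D ∣ p ^ (k - b) - 1 := by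
    have hcop : (Nat.card D).Coprime (p ^ b) := by
      refine Nat.Coprime.pow_right _ (Nat.Coprime.symm ((hp.out.coprime_iff_not_dvd).2 fun h => ?_))
      have h1 := h.trans hDn
      have h2 : p ∣ p ^ n := dvd_pow_self p (by omega)
      have := Nat.dvd_sub h2 h1
      rw [Nat.sub_sub_self (Nat.one_le_pow _ _ hp.out.pos)] at this
      exact hp.out.ne_one (Nat.dvd_one.1 this)
    refine hcop.dvd_of_dvd_mul_left ?_
    rwa [Nat.mul_sub, mul_one, ← pow_add, Nat.add_sub_cancel' hbk.le]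
  refine false_of_dvd hp2 hd0 hdn (by omega) (show k - b < n by omega) htd hDk' ?_
  rw [card_mul_index]
  omega

/-- Class at most two. -/
theorem derived_central (p : ℕ) [hp : Fact p.Prime] (T : Subgroup G) [T.Normal]
    (hT : IsPGroup p T) (hne : ⁅T, T⁆ ≠ T) (hcam : CosetClasses T)
    (C : Subgroup G) [IsMulCommutative C]
    (hC : (Nat.card C + 1) * Nat.card (⁅T, T⁆ : Subgroup G) = Nat.card T)
    (hfree : ∀ c ∈ C, ∀ x ∈ T, x ∉ ⁅T, T⁆ → ⁅c, x⁆ ∈ ⁅T, T⁆ → c = 1) : ⁅⁅T, T⁆, T⁆ = ⊥ := by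
  classical
  set Q := ⁅T, T⁆ with hQdef
  have hQT : Q ≤ T := commutator_le_left T T
  set N := ⁅⁅Q, T⁆, T⁆ with hNdef
  have hN3 : N ≤ ⁅Q, T⁆ := commutator_le_left _ T
  have hNQ : N ≤ Q := hN3.trans (commutator_le_left Q T)
  let π : G →* G ⧸ N := QuotientGroup.mk' N
  have hπ : Function.Surjective π := QuotientGroup.mk'_surjective N
  have hQmap : ⁅T.map π, T.map π⁆ = Q.map π := (map_commutator _ _ _).symm
  have hmemQ : ∀ x, π x ∈ Q.map π ↔ x ∈ Q := fun x => by
    rw [← mem_comap, comap_map_eq, QuotientGroup.ker_mk', sup_eq_left.2 hNQ]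
  obtain ⟨x₀, hx₀T, hx₀Q⟩ := SetLike.exists_of_lt (lt_of_le_of_ne hQT hne)
  have hCinj : ∀ c ∈ C, π c = 1 → c = 1 := fun c hc h => by
    refine hfree c hc x₀ hx₀T hx₀Q ?_
    have hcQ : c ∈ Q := hNQ ((QuotientGroup.eq_one_iff c).1 h)
    exact commutator_le_left Q T (commutator_mem_commutator hcQ hx₀T)
  haveI : (T.map π).Normal := Normal.map inferInstance π hπ
  haveI : IsMulCommutative (C.map π) := ⟨⟨by
    rintro ⟨_, u, hu, rfl⟩ ⟨_, v, hv, rfl⟩
    exact Subtype.ext ((map_mul π u v).symm.trans ((congrArg π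
      (congrArg Subtype.val (mul_comm' (⟨u, hu⟩ : C) ⟨v, hv⟩))).trans (map_mul π v u)))⟩⟩
  have hcore := derived_central_of_class_three p (T.map π) (hT.map π) (by
      rw [hQmap]
      intro h
      exact hx₀Q ((hmemQ x₀).1 (h ▸ mem_map_of_mem π hx₀T)))
    (by
      rintro _ ⟨x, hx, rfl⟩ hxQ u hu
      rw [hQmap] at hxQ hu
      obtain ⟨v, hv, rfl⟩ := hu
      obtain ⟨t, ht, htv⟩ := hcam x hx (fun h => hxQ (mem_map_of_mem π h)) v hv
      exact ⟨π t, mem_map_of_mem π ht, by rw [← map_inv, ← map_mul, ← map_mul, htv, map_mul]⟩)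
    (C.map π) (by
      rw [hQmap, Nat.card_congr (MulEquiv.ofBijective (π.subgroupMap C) ⟨?_,
        MonoidHom.subgroupMap_surjective π C⟩).symm.toEquiv]
      · have h1 := card_mul_index (N.subgroupOf T)
        have h2 := card_mul_index (N.subgroupOf Q)
        rw [Nat.card_congr (subgroupOfEquivOfLe (hNQ.trans hQT)).toEquiv, show (N.subgroupOf T).index
          = Nat.card (T.map π) by rw [← relIndex_ker, QuotientGroup.ker_mk']; rfl] at h1
        rw [Nat.card_congr (subgroupOfEquivOfLe hNQ).toEquiv, show (N.subgroupOf Q).index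
          = Nat.card (Q.map π) by rw [← relIndex_ker, QuotientGroup.ker_mk']; rfl] at h2
        refine Nat.eq_of_mul_eq_mul_left (Nat.card_pos (α := N)) ?_
        rw [h1, ← hC, ← h2]
        ring
      · rw [injective_iff_map_eq_one]
        rintro ⟨c, hc⟩ h
        exact Subtype.ext (hCinj c hc (congrArg Subtype.val h)))
    (by
      rintro _ ⟨c, hc, rfl⟩ _ ⟨x, hx, rfl⟩ hxQ h
      rw [hQmap] at hxQ h
      rw [← map_commutatorElement, hmemQ] at h
      rw [hfree c hc x hx (fun hh => hxQ (mem_map_of_mem π hh)) h, map_one])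
    (by rw [hQmap, ← map_commutator, ← map_commutator, Subgroup.map_eq_bot_iff, QuotientGroup.ker_mk'])
  rw [hQmap, ← map_commutator, Subgroup.map_eq_bot_iff, QuotientGroup.ker_mk'] at hcore
  -- `[Q, T] = [[Q, T], T]` forces `[Q, T] = ⊥`
  have hfix : ⁅Q, T⁆ = ⁅⁅Q, T⁆, T⁆ := le_antisymm hcore hN3
  have hQ3T : ⁅Q, T⁆ ≤ T := (commutator_le_left Q T).trans hQT
  haveI := hT.isNilpotent
  obtain ⟨m, hm⟩ := Subgroup.nilpotent_iff_lowerCentralSeries.1 (inferInstance : Group.IsNilpotent T)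
  have hlow : ∀ i, ⁅Q, T⁆ ≤ ((⊤ : Subgroup T).lowerCentralSeries i).map T.subtype := by
    intro i
    induction i with
    | zero => rw [Subgroup.lowerCentralSeries_zero, ← MonoidHom.range_eq_map, range_subtype]; exact hQ3T
    | succ i ih =>
      rw [hfix, Subgroup.lowerCentralSeries_succ, map_commutator]
      refine commutator_mono ih ?_
      rw [← MonoidHom.range_eq_map, range_subtype]
  have := hlow m
  rwa [hm, Subgroup.map_bot, le_bot_iff] at this

/-- An element outside `T'` has order `p`, or order dividing four if `p = 2`. -/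
theorem exists_small_order (p : ℕ) [hp : Fact p.Prime] (T : Subgroup G) [T.Normal]
    (hT : IsPGroup p T) (hne : ⁅T, T⁆ ≠ T) (hcam : CosetClasses T)
    (hexp : ∀ x ∈ T, x ^ p ∈ ⁅T, T⁆)
    (C : Subgroup G) [IsMulCommutative C]
    (hC : (Nat.card C + 1) * Nat.card (⁅T, T⁆ : Subgroup G) = Nat.card T)
    (hfree : ∀ c ∈ C, ∀ x ∈ T, x ∉ ⁅T, T⁆ → ⁅c, x⁆ ∈ ⁅T, T⁆ → c = 1) :
    ∃ x ∈ T, x ∉ ⁅T, T⁆ ∧ (x ^ p = 1 ∨ (p = 2 ∧ x ^ 4 = 1)) := by
  classical
  have h2 := derived_central p T hT hne hcam C hC hfree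
  set Q := ⁅T, T⁆ with hQdef
  have hQT : Q ≤ T := commutator_le_left T T
  obtain ⟨x₀, hx₀T, hx₀Q⟩ := SetLike.exists_of_lt (lt_of_le_of_ne hQT hne)
  have hcen : ∀ u ∈ Q, ∀ t ∈ T, Commute t u := fun u hu t ht =>
    mem_centralizer_iff.1 ((commutator_eq_bot_iff_le_centralizer.1 h2) hu) t ht
  have hcp : ∀ s ∈ T, ∀ t ∈ T, ∀ m : ℕ, ⁅s ^ m, t⁆ = ⁅s, t⁆ ^ m := by
    intro s hs t ht m
    induction m with
    | zero => simp
    | succ m ih =>
      have hc : Commute (s ^ m) ⁅s, t⁆ := (hcen _ (commutator_mem_commutator hs ht) _ (pow_mem hs m))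
      rw [pow_succ, pow_succ', ← ih]
      calc ⁅s ^ m * s, t⁆ = s ^ m * ⁅s, t⁆ * (s ^ m)⁻¹ * ⁅s ^ m, t⁆ := by
            simp only [commutatorElement_def]; group
        _ = ⁅s, t⁆ * ⁅s ^ m, t⁆ := by rw [hc.eq, mul_inv_cancel_right]
  have hcp1 : ∀ s ∈ T, ∀ t ∈ T, ⁅s, t⁆ ^ p = 1 := fun s hs t ht => by
    rw [← hcp s hs t ht p]
    exact commutatorElement_eq_one_iff_commute.2 (hcen _ (hexp s hs) t ht).symm
  have hQp : ∀ u ∈ Q, u ^ p = 1 := by
    intro u hu
    rw [hQdef, Subgroup.commutator_def] at hu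
    induction hu using closure_induction with
    | mem a ha => obtain ⟨s, hs, t, ht, rfl⟩ := ha; exact hcp1 s hs t ht
    | one => simp
    | mul a b ha hb iha ihb =>
      have haQ : a ∈ Q := by rw [hQdef, Subgroup.commutator_def]; exact ha
      have hbQ : b ∈ Q := by rw [hQdef, Subgroup.commutator_def]; exact hb
      rw [(hcen b hbQ a (hQT haQ)).mul_pow, iha, ihb, one_mul]
    | inv a ha iha => simp [inv_pow, iha]
  rcases hp.out.eq_two_or_odd' with hp2 | hodd
  · refine ⟨x₀, hx₀T, hx₀Q, Or.inr ⟨hp2, ?_⟩⟩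
    rw [show 4 = 2 * 2 from rfl, pow_mul]
    exact hp2 ▸ hQp _ (hp2 ▸ hexp x₀ hx₀T)
  -- for odd `p` the power map is a homomorphism with small image
  letI : CommGroup Q :=
    { (inferInstance : Group Q) with
      mul_comm := fun u v => Subtype.ext (hcen v v.2 u (hQT u.2)) }
  let φ : T →* Q := MonoidHom.mk' (fun t => ⟨(t : G) ^ p, hexp t t.2⟩) fun s t => by
    refine Subtype.ext ?_
    show ((s : G) * t) ^ p = (s : G) ^ p * (t : G) ^ p
    set c := ⁅(t : G), (s : G)⁆ with hc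
    have hcQ : c ∈ Q := commutator_mem_commutator t.2 s.2
    have key : ∀ m : ℕ, ((s : G) * t) ^ m = (s : G) ^ m * (t : G) ^ m * c ^ (m.choose 2) := by
      intro m
      induction m with
      | zero => simp
      | succ m ih =>
        have hts : (t : G) ^ m * s = (s : G) * t ^ m * c ^ m := by
          have h := hcp t t.2 s s.2 m
          have hcm : Commute ((s : G) * (t : G) ^ m) (c ^ m) :=
            (hcen _ hcQ _ (mul_mem s.2 (pow_mem t.2 m))).pow_right m
          calc (t : G) ^ m * s = ⁅(t : G) ^ m, (s : G)⁆ * (s * t ^ m) := by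
                rw [commutatorElement_def]; group
            _ = c ^ m * (s * t ^ m) := by rw [h]
            _ = _ := hcm.eq.symm
        have hcs : ∀ j, Commute (c ^ j) (s : G) := fun j => (hcen _ hcQ _ s.2).symm.pow_left j
        have hct : ∀ j, Commute (c ^ j) (t : G) := fun j => (hcen _ hcQ _ t.2).symm.pow_left j
        calc ((s : G) * t) ^ (m + 1) = (s : G) ^ m * (t : G) ^ m * c ^ m.choose 2 * (s * t) := by
              rw [pow_succ, ih]
          _ = (s : G) ^ m * ((t : G) ^ m * s) * t * c ^ m.choose 2 := by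
              rw [mul_assoc _ (c ^ _), ← mul_assoc (c ^ _), (hcs _).eq, mul_assoc (s : G),
                (hct _).eq]
              group
          _ = (s : G) ^ m * ((s : G) * t ^ m * c ^ m) * t * c ^ m.choose 2 := by rw [hts]
          _ = (s : G) ^ m * (s : G) * ((t : G) ^ m * (c ^ m * t)) * c ^ m.choose 2 := by group
          _ = (s : G) ^ m * (s : G) * ((t : G) ^ m * (t * c ^ m)) * c ^ m.choose 2 := by
              rw [(hct m).eq]
          _ = (s : G) ^ (m + 1) * (t : G) ^ (m + 1) * c ^ (m + 1).choose 2 := by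
              rw [show (m + 1).choose 2 = m + m.choose 2 by
                rw [Nat.choose_succ_succ, Nat.choose_one_right], pow_add c, pow_succ (s : G),
                pow_succ (t : G)]
              simp only [mul_assoc]
    rw [key p, Nat.choose_two_right, Nat.mul_div_assoc _ (by obtain ⟨r, hr⟩ := hodd; omega),
      pow_mul, hcp1 t t.2 s s.2, one_pow, mul_one]
  have hlt := card_derived_lt T hcam ⊥ bot_le h2.le hx₀T hx₀Q
  rw [card_bot, mul_one, ← hQdef] at hlt
  have hker : Q.subgroupOf T < φ.ker := by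
    refine lt_of_le_of_ne (fun u hu => MonoidHom.mem_ker.2 (Subtype.ext (hQp _ (mem_subgroupOf.1 hu))))
      fun h => ?_
    have h1 : Nat.card φ.ker * Nat.card φ.range = Nat.card T := by
      rw [← index_ker]; exact card_mul_index _
    rw [← h, Nat.card_congr (subgroupOfEquivOfLe hQT).toEquiv] at h1
    have h3 : Nat.card φ.range ≤ Nat.card Q := card_le_card_group _
    have := Nat.mul_le_mul_left (Nat.card Q) h3
    rw [h1] at this
    omega
  obtain ⟨y, hy, hyQ⟩ := SetLike.exists_of_lt hker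
  exact ⟨y, y.2, fun h => hyQ (mem_subgroupOf.2 h),
    Or.inl (congrArg Subtype.val (MonoidHom.mem_ker.1 hy))⟩

end CfsgLib.OneClassDerived
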