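import Mathlib.GroupTheory.PGroup
import Mathlib.GroupTheory.Commutator.Basic
import Mathlib.GroupTheory.Nilpotent
import Mathlib.GroupTheory.SpecificGroups.Cyclic
import Mathlib.Tactic.Group
import Mathlib.Tactic.Linarith
import Mathlib.Tactic.Ring
import Cfsg.Agent.Lib.OddOrder.PuigSeries

/-!
# A `2`-group whose derived subgroup minus a subgroup of index two is one class

Such an element has order dividing four when the group modulo that subgroup is extraspecial.
-/

set_option autoImplicit false

namespace CfsgLib.OneClassDerived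

open Subgroup
open scoped commutatorElement

/-- A non-abelian `2`-group with derived subgroup of index four has order eight or a cyclic
subgroup of index two. -/
theorem exists_cyclic_index_two : ∀ (k : ℕ) (S : Type*) [Group S] [Finite S], Nat.card S = k →
    IsPGroup 2 S → commutator S ≠ ⊥ → (commutator S).index = 4 →
    Nat.card S = 8 ∨ ∃ A : Subgroup S, A.index = 2 ∧ IsCyclic A := by
  intro k
  induction k using Nat.strong_induction_on with
  | _ k ih =>
  intro S _ _ hk hS hna hi
  classical
  haveI : Fact (Nat.Prime 2) := ⟨Nat.prime_two⟩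
  haveI := hS.isNilpotent
  have hne : commutator S ⊓ center S ≠ ⊥ := by
    rw [inf_comm]; exact CfsgLib.OddOrder.PuigSeries.inf_center_ne_bot (commutator S) hna
  obtain ⟨⟨w, hwD, hwZ⟩, hw⟩ : ∃ w : (commutator S ⊓ center S : Subgroup S), orderOf w = 2 := by
    obtain ⟨j, hj⟩ := IsPGroup.iff_card.1 (hS.to_subgroup (commutator S ⊓ center S : Subgroup S))
    refine exists_prime_orderOf_dvd_card' 2 (hj ▸ dvd_pow_self 2 ?_)
    rintro rfl
    exact hne (card_eq_one.1 (by simpa using hj))
  have hw : orderOf w = 2 := by rw [← hw, ← Subgroup.orderOf_coe]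
  set Z := zpowers w with hZ
  have hZc : Z ≤ center S := zpowers_le.2 hwZ
  haveI : Z.Normal := ⟨fun z hz g => by
    rw [mem_center_iff.1 (hZc hz) g, mul_inv_cancel_right]; exact hz⟩
  have hZD : Z ≤ commutator S := zpowers_le.2 hwD
  have hZcard : Nat.card Z = 2 := by rw [hZ, Nat.card_zpowers, hw]
  let π := QuotientGroup.mk' Z
  have hπ : Function.Surjective π := QuotientGroup.mk'_surjective Z
  have hDmap : commutator (S ⧸ Z) = (commutator S).map π := by
    rw [_root_.commutator_def, _root_.commutator_def, map_commutator, Subgroup.map_top_of_surjective π hπ]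
  have hi' : (commutator (S ⧸ Z)).index = 4 := by
    rw [hDmap, index_map, QuotientGroup.ker_mk', MonoidHom.range_eq_top.2 hπ, index_top, mul_one,
      sup_eq_left.2 hZD, hi]
  have hcardq : Nat.card S = Nat.card (S ⧸ Z) * 2 := by
    rw [card_eq_card_quotient_mul_card_subgroup Z, hZcard]
  by_cases hqa : commutator (S ⧸ Z) = ⊥
  · left
    rw [hqa, index_bot] at hi'
    omega
  obtain ⟨Ab, hAb2, hAbc⟩ : ∃ Ab : Subgroup (S ⧸ Z), Ab.index = 2 ∧ IsCyclic Ab := by
    have hq : IsPGroup 2 (S ⧸ Z) := hS.to_quotient Z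
    rcases ih (Nat.card (S ⧸ Z)) (by rw [← hk, hcardq]; have := Nat.card_pos (α := S ⧸ Z); omega)
      (S ⧸ Z) rfl hq hqa hi' with h8 | h
    · obtain ⟨a, ha⟩ : ∃ a : S ⧸ Z, a * a ≠ 1 := by
        by_contra h
        push Not at h
        refine hqa (commutator_eq_bot_iff_le_centralizer.2 fun x _ => mem_centralizer_iff.2 ?_)
        intro y _
        have := h (y * x)
        calc y * x = y * x * (y * x * (y * x))⁻¹ := by rw [this, inv_one, mul_one]
          _ = (y * x)⁻¹ := by group
          _ = x⁻¹ * y⁻¹ := mul_inv_rev y x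
          _ = x * y := by rw [inv_eq_of_mul_eq_one_left (h x), inv_eq_of_mul_eq_one_left (h y)]
      obtain ⟨j, hj⟩ := hq a
      have hord : orderOf a ∣ 8 := h8 ▸ orderOf_dvd_natCard a
      obtain ⟨i, hi3, hoi⟩ := (Nat.dvd_prime_pow Nat.prime_two).1 (show orderOf a ∣ 2 ^ 3 from hord)
      have hi2 : 2 ≤ i := by
        by_contra hlt
        refine ha ?_
        rw [← pow_two, ← orderOf_dvd_iff_pow_eq_one, hoi]
        exact Nat.pow_dvd_pow 2 (show i ≤ 1 by omega) |>.trans (by norm_num)
      have hi3' : i ≠ 3 := by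
        rintro rfl
        refine hqa ?_
        haveI : IsCyclic (S ⧸ Z) := isCyclic_of_orderOf_eq_card a (by rw [hoi, h8]; norm_num)
        exact commutator_eq_bot_iff_le_centralizer.2 fun x _ => mem_centralizer_iff.2 fun y _ =>
          IsCyclic.commGroup.mul_comm y x
      refine ⟨zpowers a, ?_, inferInstance⟩
      have h := (zpowers a).card_mul_index
      rw [Nat.card_zpowers, hoi, show i = 2 by omega, h8] at h
      omega
    · exact h
  right
  set A := Ab.comap π with hA
  have hA2 : A.index = 2 := by rw [hA, index_comap_of_surjective _ hπ, hAb2]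
  have hcZ : (π.comp A.subtype).ker ≤ center A := fun x hx => mem_center_iff.2 fun y => Subtype.ext
    (mem_center_iff.1 (hZc ((QuotientGroup.eq_one_iff _).1 (MonoidHom.mem_ker.1 hx))) y)
  have hrange : (π.comp A.subtype).range ≤ Ab := by
    rintro _ ⟨x, rfl⟩; exact x.2
  haveI : IsCyclic (π.comp A.subtype).range := isCyclic_of_injective (inclusion hrange)
    (inclusion_injective hrange)
  haveI hAcomm : IsMulCommutative A := ⟨⟨fun a b =>
    commutative_of_cyclic_center_quotient (π.comp A.subtype).rangeRestrict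
      (by rwa [MonoidHom.ker_rangeRestrict]) a b⟩⟩
  refine ⟨A, hA2, ?_⟩
  by_contra hAnc
  haveI := normal_of_index_eq_two hA2
  obtain ⟨s, hs⟩ : ∃ s : S, s ∉ A := by
    by_contra h
    push Not at h
    rw [(eq_top_iff' A).2 h, index_top] at hA2
    omega
  have hcomm : ∀ a ∈ A, ∀ b ∈ A, a * b = b * a := fun a ha b hb =>
    congrArg Subtype.val (mul_comm' (⟨a, ha⟩ : A) ⟨b, hb⟩)
  let d : A →* A := MonoidHom.mk' (fun b => ⟨s * b * s⁻¹ * (b : S)⁻¹,
    A.mul_mem (Normal.conj_mem inferInstance _ b.2 s) (A.inv_mem b.2)⟩) fun a b => by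
    refine Subtype.ext ?_
    show s * ((a : S) * b) * s⁻¹ * ((a : S) * b)⁻¹ =
      s * a * s⁻¹ * (a : S)⁻¹ * (s * b * s⁻¹ * (b : S)⁻¹)
    calc s * ((a : S) * b) * s⁻¹ * ((a : S) * b)⁻¹
        = s * a * s⁻¹ * ((s * b * s⁻¹ * (b : S)⁻¹) * (a : S)⁻¹) := by group
      _ = _ := by
        rw [hcomm _ (A.mul_mem (Normal.conj_mem inferInstance _ b.2 s) (A.inv_mem b.2)) _
          (A.inv_mem a.2)]
        group
  set R := d.range.map A.subtype with hR
  have hRA : R ≤ A := map_subtype_le _
  have hdR : ∀ b, (hb : b ∈ A) → s * b * s⁻¹ * b⁻¹ ∈ R := fun b hb =>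
    ⟨d ⟨b, hb⟩, ⟨_, rfl⟩, rfl⟩
  have hcases : ∀ g : S, g ∈ A ∨ ∃ a ∈ A, g = a * s := by
    intro g
    by_cases hg : g ∈ A
    · exact Or.inl hg
    · exact Or.inr ⟨g * s⁻¹, (mul_mem_iff_of_index_two hA2).2
        (iff_of_false hg (by simpa using hs)), by group⟩
  haveI : R.Normal := by
    refine ⟨fun r hr g => ?_⟩
    obtain ⟨_, ⟨b, rfl⟩, rfl⟩ := hr
    have hrA : (d b : S) ∈ A := (d b).2
    have hs' : s * (d b : S) * s⁻¹ ∈ R :=
      ⟨_, ⟨⟨s * b * s⁻¹, Normal.conj_mem inferInstance _ b.2 s⟩, rfl⟩, by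
        show s * (s * b * s⁻¹) * s⁻¹ * (s * b * s⁻¹)⁻¹ = s * (s * b * s⁻¹ * (b : S)⁻¹) * s⁻¹
        group⟩
    have hmove : ∀ a ∈ A, ∀ r ∈ A, a * r * a⁻¹ = r := fun a ha r hr => by
      rw [hcomm a ha r hr]; group
    rcases hcases g with hg | ⟨a, ha, rfl⟩
    · show g * (d b : S) * g⁻¹ ∈ R
      rw [hmove g hg _ hrA]
      exact ⟨d b, ⟨b, rfl⟩, rfl⟩
    · show a * s * (d b : S) * (a * s)⁻¹ ∈ R
      rw [show a * s * (d b : S) * (a * s)⁻¹ = a * (s * (d b : S) * s⁻¹) * a⁻¹ by group,
        hmove a ha _ (Normal.conj_mem inferInstance _ hrA s)]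
      exact hs'
  have hDR : commutator S ≤ R := by
    let ρ := QuotientGroup.mk' R
    have h1 : ∀ b ∈ A, ρ s * ρ b = ρ b * ρ s := fun b hb => by
      have h := (QuotientGroup.eq_one_iff _).2 (hdR b hb)
      have h' : ρ s * ρ b * (ρ s)⁻¹ * (ρ b)⁻¹ = 1 := by
        simpa [ρ, map_mul, map_inv] using h
      rw [mul_inv_eq_one, mul_inv_eq_iff_eq_mul] at h'
      exact h'
    have hcen : ∀ x : S, ∀ y : S, ρ x * ρ y = ρ y * ρ x := by
      have h2 : ∀ a ∈ A, ∀ y : S, ρ a * ρ y = ρ y * ρ a := fun a ha y => by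
        rcases hcases y with hy | ⟨b, hb, rfl⟩
        · rw [← map_mul, ← map_mul, hcomm a ha y hy]
        · rw [map_mul]
          exact (show Commute (ρ a) (ρ b) by
            rw [Commute, SemiconjBy, ← map_mul, ← map_mul, hcomm a ha b hb]).mul_right (h1 a ha).symm
      intro x y
      rcases hcases x with hx | ⟨a, ha, rfl⟩
      · exact h2 x hx y
      · rcases hcases y with hy | ⟨b, hb, rfl⟩
        · exact (h2 y hy _).symm
        · rw [map_mul, map_mul]
          exact ((show Commute (ρ a) (ρ b) from h2 a ha b).mul_right (h1 a ha).symm).mul_left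
            ((show Commute (ρ s) (ρ b) from h1 b hb).mul_right rfl)
    rw [_root_.commutator_def, Subgroup.commutator_le]
    intro x _ y _
    rw [← QuotientGroup.eq_one_iff]
    show ρ ⁅x, y⁆ = 1
    rw [map_commutatorElement]
    exact commutatorElement_eq_one_iff_mul_comm.2 (hcen x y)
  -- the kernel of `d` has order at most two
  have hker : Nat.card d.ker ≤ 2 := by
    have h1 : Nat.card d.ker * Nat.card d.range = Nat.card A := by
      rw [← index_ker]; exact card_mul_index _
    have h2 := A.card_mul_index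
    have h3 := (commutator S).card_mul_index
    have h4 : Nat.card (commutator S) ≤ Nat.card d.range := by
      refine (card_le_of_le hDR).trans ?_
      rw [hR, card_map_of_injective A.subtype_injective]
    rw [hA2] at h2
    rw [hi] at h3
    by_contra h
    have : 3 * Nat.card d.range ≤ Nat.card A := h1 ▸ Nat.mul_le_mul_right _ (by omega)
    have := Nat.card_pos (α := d.range)
    omega
  -- a second fixed involution unless `A` has exponent two
  have hwA : w ∈ A := by
    show π w ∈ Ab
    rw [show π w = 1 from (QuotientGroup.eq_one_iff w).2 (mem_zpowers w)]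
    exact one_mem _
  obtain ⟨⟨ab, habA⟩, hgen⟩ := IsCyclic.exists_generator (α := Ab)
  obtain ⟨a, rfl⟩ := hπ ab
  have haA : a ∈ A := habA
  have hAdec : ∀ x ∈ A, ∃ i : ℤ, ∃ z ∈ Z, x = a ^ i * z := by
    intro x hx
    obtain ⟨i, hi'⟩ := hgen ⟨π x, hx⟩
    have h : π x = π (a ^ i) := by
      rw [map_zpow]; exact (congrArg Subtype.val hi').symm
    exact ⟨i, (a ^ i)⁻¹ * x, QuotientGroup.eq.1 h.symm, by group⟩
  have hwna : w ∉ zpowers a := by
    intro hw'
    refine hAnc ⟨⟨⟨a, haA⟩, fun x => ?_⟩⟩
    obtain ⟨i, z, hz, hx⟩ := hAdec x x.2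
    obtain ⟨j, rfl⟩ := mem_zpowers_iff.1 hz
    obtain ⟨l, hl⟩ := mem_zpowers_iff.1 hw'
    refine mem_zpowers_iff.2 ⟨i + l * j, Subtype.ext ?_⟩
    rw [hx, ← hl, SubgroupClass.coe_zpow, zpow_add, zpow_mul]
  by_cases ha2 : a * a = 1
  · -- then the quotient is too small
    have h2 : Nat.card Ab ≤ 2 := by
      have : orderOf (⟨π a, habA⟩ : Ab) = Nat.card Ab := orderOf_eq_card_of_forall_mem_zpowers hgen
      rw [← this]
      refine Nat.le_of_dvd two_pos (orderOf_dvd_of_pow_eq_one (Subtype.ext ?_))
      show π a ^ 2 = 1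
      rw [← map_pow, pow_two, ha2, map_one]
    have h3 := Ab.card_mul_index
    have h4 := (commutator (S ⧸ Z)).card_mul_index
    rw [hAb2] at h3
    rw [hi'] at h4
    have : Nat.card (commutator (S ⧸ Z)) ≠ 1 := fun h => hqa (card_eq_one.1 h)
    have := Nat.card_pos (α := commutator (S ⧸ Z))
    omega
  obtain ⟨j, hj⟩ := hS (a * a)
  have hex : ∃ i, (a * a) ^ 2 ^ i = 1 := ⟨j, hj⟩
  set i := Nat.find hex
  have hi1 : (a * a) ^ 2 ^ i = 1 := Nat.find_spec hex
  have hi0 : i ≠ 0 := fun h => ha2 (by simpa [h] using hi1)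
  set u := (a * a) ^ 2 ^ (i - 1) with hu
  have hu1 : u ≠ 1 := fun h => Nat.find_min hex (show i - 1 < i by omega) h
  have hu2 : u * u = 1 := by
    rw [hu, ← pow_add, ← two_mul, ← pow_succ', show i - 1 + 1 = i by omega, hi1]
  have huz : u ∈ zpowers a := pow_mem (mul_mem (mem_zpowers a) (mem_zpowers a)) _
  have huA : u ∈ A := zpowers_le.2 haA huz
  have hsu : s * u * s⁻¹ = u := by
    obtain ⟨l, z, hz, hl⟩ := hAdec _ (Normal.conj_mem (inferInstance : A.Normal) a haA s)
    have hzz : z * z = 1 := by
      have h := pow_card_eq_one' (x := (⟨z, hz⟩ : Z))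
      rw [hZcard, pow_two] at h
      exact congrArg Subtype.val h
    have hcz : Commute (a ^ l) z := (mem_center_iff.1 (hZc hz) (a ^ l))
    have hsa : s * (a * a) * s⁻¹ = (a * a) ^ l := by
      calc s * (a * a) * s⁻¹ = (s * a * s⁻¹) * (s * a * s⁻¹) := by group
        _ = a ^ l * z * (a ^ l * z) := by rw [hl]
        _ = a ^ l * a ^ l * (z * z) := Commute.mul_mul_mul_comm hcz.symm (a ^ l) z
        _ = (a * a) ^ l := by rw [hzz, mul_one, (Commute.refl a).mul_zpow]
    have hsu' : s * u * s⁻¹ = u ^ l := by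
      rw [hu, ← MulAut.conj_apply, map_pow, MulAut.conj_apply, hsa, ← zpow_natCast, ← zpow_natCast,
        ← zpow_mul, ← zpow_mul, mul_comm]
    rcases Int.even_or_odd l with ⟨m, hm⟩ | ⟨m, hm⟩
    · exfalso
      refine hu1 ?_
      rw [hm, ← two_mul, zpow_mul, show u ^ (2 : ℤ) = u * u from zpow_two u, hu2, one_zpow] at hsu'
      exact conj_eq_one_iff.1 hsu'
    · rw [hsu', hm, zpow_add, zpow_one, zpow_mul, show u ^ (2 : ℤ) = u * u from zpow_two u, hu2,
        one_zpow, one_mul]
  have hw1 : w ≠ 1 := fun h => by rw [h, orderOf_one] at hw; omega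
  have h3 : ({1, ⟨w, hwA⟩, ⟨u, huA⟩} : Finset A).card = 3 := by
    rw [Finset.card_insert_of_notMem, Finset.card_insert_of_notMem, Finset.card_singleton]
    · simp only [Finset.mem_singleton, Subtype.mk.injEq]
      exact fun h => hwna (h ▸ huz)
    · simp [Ne.symm hw1, Ne.symm hu1, Subtype.ext_iff]
  have hsub : ∀ x ∈ ({1, ⟨w, hwA⟩, ⟨u, huA⟩} : Finset A), x ∈ d.ker := by
    intro x hx
    simp only [Finset.mem_insert, Finset.mem_singleton] at hx
    rcases hx with rfl | rfl | rfl
    · exact one_mem _
    · refine MonoidHom.mem_ker.2 (Subtype.ext ?_)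
      show s * w * s⁻¹ * w⁻¹ = 1
      rw [mem_center_iff.1 hwZ s, mul_inv_cancel_right, mul_inv_cancel]
    · refine MonoidHom.mem_ker.2 (Subtype.ext ?_)
      show s * u * s⁻¹ * u⁻¹ = 1
      rw [hsu, mul_inv_cancel]
  have := Nat.card_le_card_of_injective
    (fun x : ({1, ⟨w, hwA⟩, ⟨u, huA⟩} : Finset A) => (⟨x.1, hsub x.1 x.2⟩ : d.ker))
    fun x y h => Subtype.ext (congrArg Subtype.val h :)
  rw [Nat.card_eq_fintype_card (α := ↥({1, ⟨w, hwA⟩, ⟨u, huA⟩} : Finset A)), Fintype.card_coe, h3]
    at this
  omega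

/-- If `S' ∖ Q` is the class of `x`, `[S' : Q] = 2` and `S / Q` has derived subgroup equal to its
centre and elementary quotient, then `x ^ 4 = 1`. -/
theorem pow_four_of_class {S : Type*} [Group S] [Finite S] (hS : IsPGroup 2 S) (Q : Subgroup S)
    [Q.Normal] (hQD : Q ≤ commutator S) (hQ2 : Nat.card (commutator S) = 2 * Nat.card Q)
    (x : S) (hxD : x ∈ commutator S) (hxQ : x ∉ Q)
    (hclass : ∀ u ∈ Q, ∃ s, s * x * s⁻¹ = x * u)
    (hcent : Nat.card (centralizer ({x} : Set S)) * Nat.card Q = Nat.card S)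
    (hnd : ∀ h : S, (∀ y, ⁅h, y⁆ ∈ Q) → h ∈ commutator S)
    (hn : 4 ≤ (commutator S).index) : x ^ 4 = 1 := by
  classical
  haveI : Fact (Nat.Prime 2) := ⟨Nat.prime_two⟩
  haveI := hS.isNilpotent
  obtain ⟨b, hb⟩ := IsPGroup.iff_card.1 (hS.to_subgroup Q)
  have hcoset : ∀ y ∈ commutator S, y ∉ Q → x⁻¹ * y ∈ Q := by
    intro y hy hyQ
    have h2 : (Q.subgroupOf (commutator S)).index = 2 := by
      have h := (Q.subgroupOf (commutator S)).card_mul_index
      rw [Nat.card_congr (subgroupOfEquivOfLe hQD).toEquiv, hQ2, mul_comm 2] at h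
      exact Nat.eq_of_mul_eq_mul_left Nat.card_pos h
    exact (mul_mem_iff_of_index_two h2 (a := (⟨x⁻¹, inv_mem hxD⟩ : commutator S)) (b := ⟨y, hy⟩)).2
      (iff_of_false (by simpa [mem_subgroupOf] using hxQ) (by simpa [mem_subgroupOf] using hyQ))
  have hcases : (commutator S).index = 4 ∨ 8 ≤ (commutator S).index := by
    obtain ⟨m, hm⟩ := hS.index (commutator S)
    rw [hm] at hn ⊢
    rcases m with _ | _ | _ | m
    · norm_num at hn
    · norm_num at hn
    · left; norm_num
    · right; rw [pow_succ, pow_succ, pow_succ]; have := Nat.one_le_two_pow (n := m); omega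
  have hDne : commutator S ≠ ⊥ := fun h => hxQ <| by
    rw [h, mem_bot] at hxD
    rw [hxD]; exact one_mem _
  rcases hcases with h4 | h8
  · rcases exists_cyclic_index_two (Nat.card S) S rfl hS hDne h4 with h | ⟨A, hA2, hAc⟩
    · have h3 := (commutator S).card_mul_index
      rw [h4, h] at h3
      have : x ^ Nat.card (commutator S) = 1 :=
        congrArg Subtype.val (pow_card_eq_one' (x := (⟨x, hxD⟩ : commutator S)))
      rw [show Nat.card (commutator S) = 2 by omega] at this
      rw [show 4 = 2 * 2 from rfl, pow_mul, this, one_pow]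
    · haveI := normal_of_index_eq_two hA2
      have hDA : commutator S ≤ A := by
        rw [_root_.commutator_def, Subgroup.commutator_le]
        intro a _ c _
        have key : ∀ g, g * g ∈ A := mul_self_mem_of_index_two hA2
        rw [commutatorElement_def, show a * c * a⁻¹ * c⁻¹ =
          (a * a) * (a⁻¹ * c * (a⁻¹ * c)) * (c⁻¹ * c⁻¹) by group]
        exact mul_mem (mul_mem (key a) (key _)) (key _)
      have hAC : A ≤ centralizer ({x} : Set S) := fun a ha => mem_centralizer_singleton_iff.2
        (congrArg Subtype.val (IsCyclic.commGroup.mul_comm (⟨a, ha⟩ : A) ⟨x, hDA hxD⟩))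
      have h8' : Nat.card (centralizer ({x} : Set S)) = 8 := by
        have h3 := (commutator S).card_mul_index
        rw [h4, hQ2] at h3
        refine Nat.eq_of_mul_eq_mul_right (Nat.card_pos (α := Q)) ?_
        rw [hcent, ← h3]; ring
      have hAd : Nat.card A ∣ 8 := h8' ▸ card_dvd_of_le hAC
      have hA4 : Nat.card (commutator S) * 2 = Nat.card A := by
        have h3 := (commutator S).card_mul_index
        have h5 := A.card_mul_index
        rw [h4] at h3
        rw [hA2] at h5
        omega
      have hd4 : Nat.card (commutator S) ∣ 4 :=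
        Nat.dvd_of_mul_dvd_mul_right two_pos (hA4 ▸ hAd : Nat.card (commutator S) * 2 ∣ 4 * 2)
      exact orderOf_dvd_iff_pow_eq_one.1 ((orderOf_mk x hxD ▸
        orderOf_dvd_natCard (⟨x, hxD⟩ : commutator S)).trans hd4)
  · -- here `Q` is trivial
    have hQbot : Q = ⊥ := by
      set L := ⁅Q, (⊤ : Subgroup S)⁆ with hL
      have hLQ : L ≤ Q := commutator_le_left _ _
      have hcen : ∀ u ∈ Q, ∀ y, (u : S ⧸ L) * y = y * u := fun u hu y => by
        induction y using QuotientGroup.induction_on with
        | H y =>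
          rw [← QuotientGroup.mk_mul, ← QuotientGroup.mk_mul, eq_comm, QuotientGroup.eq]
          have h4 : ⁅(u⁻¹ : S), y⁻¹⁆ ∈ L := commutator_mem_commutator (inv_mem hu) (mem_top _)
          rw [commutatorElement_def, inv_inv, inv_inv] at h4
          simpa [mul_assoc] using h4
      -- `x` commutes with everything modulo `L`
      have hxw : ∀ w : S, (x : S ⧸ L) * w = w * x := by
        intro w
        -- a non-commuting pair centralising `w` modulo `Q`
        let π := QuotientGroup.mk' Q
        set D := (commutator S).map π with hD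
        have hD2 : Nat.card D = 2 := by
          rw [hD, ← relIndex_ker, QuotientGroup.ker_mk']
          have h := (Q.subgroupOf (commutator S)).card_mul_index
          rw [Nat.card_congr (subgroupOfEquivOfLe hQD).toEquiv, hQ2, mul_comm 2] at h
          exact Nat.eq_of_mul_eq_mul_left Nat.card_pos h
        have hDc : D ≤ center (S ⧸ Q) := by
          haveI : D.Normal := Normal.map inferInstance π (QuotientGroup.mk'_surjective Q)
          haveI : Fact (Nat.Prime 2) := ⟨Nat.prime_two⟩
          haveI := (hS.to_quotient Q).isNilpotent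
          have hne : D ≠ ⊥ := fun h => by rw [h, card_bot] at hD2; omega
          have h : D ⊓ center (S ⧸ Q) ≠ ⊥ := by
            rw [inf_comm]; exact CfsgLib.OddOrder.PuigSeries.inf_center_ne_bot D hne
          intro d hd
          have h2 : Nat.card (D ⊓ center (S ⧸ Q) : Subgroup (S ⧸ Q)) = 2 := by
            have h1 := card_le_of_le (inf_le_left : D ⊓ center (S ⧸ Q) ≤ D)
            have h0 : Nat.card (D ⊓ center (S ⧸ Q) : Subgroup (S ⧸ Q)) ≠ 1 :=
              fun h' => h (card_eq_one.1 h')
            have := Nat.card_pos (α := (D ⊓ center (S ⧸ Q) : Subgroup (S ⧸ Q)))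
            omega
          have := eq_of_le_of_card_ge (inf_le_left : D ⊓ center (S ⧸ Q) ≤ D) (by rw [h2, hD2])
          exact (this.symm ▸ hd).2
        have hidx : ∀ u : S, ((centralizer ({π u} : Set (S ⧸ Q))).comap π).index ≤ 2 := by
          intro u
          let f : S →* center (S ⧸ Q) := MonoidHom.mk'
            (fun y => ⟨⁅π u, π y⁆, hDc (by
              rw [← map_commutatorElement]
              exact mem_map_of_mem π (commutator_mem_commutator (mem_top _) (mem_top _)))⟩)
            fun y z => by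
              refine Subtype.ext ?_
              show ⁅π u, π (y * z)⁆ = ⁅π u, π y⁆ * ⁅π u, π z⁆
              have hc : ⁅π u, π z⁆ ∈ center (S ⧸ Q) := hDc (by
                rw [← map_commutatorElement]
                exact mem_map_of_mem π (commutator_mem_commutator (mem_top _) (mem_top _)))
              rw [map_mul]
              calc ⁅π u, π y * π z⁆ = ⁅π u, π y⁆ * (π y * ⁅π u, π z⁆ * (π y)⁻¹) := by
                    simp only [commutatorElement_def]; group
                _ = _ := by rw [mem_center_iff.1 hc (π y), mul_inv_cancel_right]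
          have hk : f.ker = (centralizer ({π u} : Set (S ⧸ Q))).comap π := by
            ext y
            rw [MonoidHom.mem_ker, mem_comap, mem_centralizer_singleton_iff, Subtype.ext_iff]
            show ⁅π u, π y⁆ = 1 ↔ _
            rw [commutatorElement_eq_one_iff_mul_comm]
            exact eq_comm
          rw [← hk, index_ker]
          refine le_trans ?_ hD2.le
          refine Nat.card_le_card_of_injective
            (fun z : f.range => (⟨((z : center (S ⧸ Q)) : S ⧸ Q), ?_⟩ : D)) fun z z' h =>
              Subtype.ext (Subtype.ext (congrArg Subtype.val h :))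
          obtain ⟨y, hy⟩ := z.2
          rw [← hy]
          show ⁅π u, π y⁆ ∈ D
          rw [← map_commutatorElement]
          exact mem_map_of_mem π (commutator_mem_commutator (mem_top _) (mem_top _))
        set H := (centralizer ({π w} : Set (S ⧸ Q))).comap π with hH
        obtain ⟨a, ha, c, hc, hac⟩ : ∃ a ∈ H, ∃ c ∈ H, ⁅a, c⁆ ∉ Q := by
          by_contra hno
          push Not at hno
          by_cases htop : H = ⊤
          · refine hxQ ((show commutator S ≤ Q from ?_) hxD)
            rw [_root_.commutator_def, Subgroup.commutator_le]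
            exact fun a _ c _ => hno a (htop ▸ mem_top a) c (htop ▸ mem_top c)
          obtain ⟨u, hu⟩ : ∃ u, u ∉ H := by
            by_contra h
            push Not at h
            exact htop ((eq_top_iff' H).2 h)
          have hHu := hidx u
          set H' := H ⊓ (centralizer ({π u} : Set (S ⧸ Q))).comap π with hH'
          have hle : H' ≤ commutator S := by
            intro h hh
            refine hnd h fun y => ?_
            rw [← QuotientGroup.eq_one_iff]
            show π ⁅h, y⁆ = 1
            rw [map_commutatorElement, commutatorElement_eq_one_iff_mul_comm]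
            have hHy : ∀ v ∈ H, π h * π v = π v * π h := fun v hv => by
              have h1 := (QuotientGroup.eq_one_iff _).2 (hno h hh.1 v hv)
              have h2 : ⁅π h, π v⁆ = 1 := by rw [← map_commutatorElement]; exact h1
              exact commutatorElement_eq_one_iff_mul_comm.1 h2
            have hH2 : H.index = 2 := by
              have h1 : H.index ≤ 2 := hidx w
              have h2 : H.index ≠ 1 := fun h' => htop (index_eq_one.1 h')
              have h3 : H.index ≠ 0 := H.index_ne_zero_of_finite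
              omega
            by_cases hy : y ∈ H
            · exact hHy y hy
            · have hyu : y * u⁻¹ ∈ H :=
                (mul_mem_iff_of_index_two hH2).2 (iff_of_false hy (by simpa using hu))
              have h1 : Commute (π h) (π (y * u⁻¹)) := hHy _ hyu
              have h2 : Commute (π h) (π u) := mem_centralizer_singleton_iff.1 (mem_comap.1 hh.2)
              have h3 := h1.mul_right h2
              rwa [← map_mul, inv_mul_cancel_right] at h3
          have h1 : (commutator S).index ≤ H'.index :=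
            Nat.le_of_dvd (Nat.pos_of_ne_zero H'.index_ne_zero_of_finite) (index_dvd_of_le hle)
          have h2 : H'.index ≤ H.index * ((centralizer ({π u} : Set (S ⧸ Q))).comap π).index :=
            index_inf_le
          have h3 := Nat.mul_le_mul (hidx w) hHu
          rw [← hH] at h3
          omega
        have hcomQ : ∀ v ∈ H, ∃ z ∈ Q, w * v * w⁻¹ = z * v := fun v hv => by
          refine ⟨w * v * w⁻¹ * v⁻¹, ?_, by group⟩
          rw [← QuotientGroup.eq_one_iff]
          show π (w * v * w⁻¹ * v⁻¹) = 1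
          have h1 : π v * π w = π w * π v := mem_centralizer_singleton_iff.1 (mem_comap.1 hv)
          simp only [map_mul, map_inv]
          rw [← h1]; group
        obtain ⟨za, hza, hwa⟩ := hcomQ a ha
        obtain ⟨zc, hzc, hwc⟩ := hcomQ c hc
        obtain ⟨v, hv, hav⟩ : ∃ v ∈ Q, ⁅a, c⁆ = x * v :=
          ⟨x⁻¹ * ⁅a, c⁆, hcoset _ (commutator_mem_commutator (mem_top _) (mem_top _)) hac, by group⟩
        let ρ := QuotientGroup.mk' L
        have hza' : ∀ y, ρ za * y = y * ρ za := hcen za hza
        have hzc' : ∀ y, ρ zc * y = y * ρ zc := hcen zc hzc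
        have hfix : ρ w * ⁅ρ a, ρ c⁆ * (ρ w)⁻¹ = ⁅ρ a, ρ c⁆ := by
          calc ρ w * ⁅ρ a, ρ c⁆ * (ρ w)⁻¹
              = ⁅ρ (w * a * w⁻¹), ρ (w * c * w⁻¹)⁆ := by
                simp only [map_mul, map_inv, commutatorElement_def]; group
            _ = ⁅ρ za * ρ a, ρ zc * ρ c⁆ := by rw [hwa, hwc, map_mul, map_mul]
            _ = ⁅ρ a, ρ c⁆ := by
              simp only [commutatorElement_def, mul_inv_rev]
              calc ρ za * ρ a * (ρ zc * ρ c) * ((ρ a)⁻¹ * (ρ za)⁻¹) * ((ρ c)⁻¹ * (ρ zc)⁻¹)
                  = ρ za * (ρ a * ρ zc) * ρ c * (ρ a)⁻¹ * ((ρ za)⁻¹ * (ρ c)⁻¹) * (ρ zc)⁻¹ := by group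
                _ = ρ za * (ρ zc * (ρ a * ρ c * (ρ a)⁻¹ * (ρ c)⁻¹)) * (ρ za)⁻¹ * (ρ zc)⁻¹ := by
                  rw [← hzc' (ρ a), show (ρ za)⁻¹ * (ρ c)⁻¹ = (ρ c)⁻¹ * (ρ za)⁻¹ by
                    rw [← mul_inv_rev, ← mul_inv_rev, hza' (ρ c)]]
                  group
                _ = ρ zc * (ρ a * ρ c * (ρ a)⁻¹ * (ρ c)⁻¹) * (ρ zc)⁻¹ := by
                  rw [hza']; group
                _ = _ := by rw [hzc']; group
        rw [← map_commutatorElement, hav, map_mul] at hfix
        have hwv : ρ v * ρ w = ρ w * ρ v := hcen v hv _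
        show ρ x * ρ w = ρ w * ρ x
        refine mul_right_cancel (b := ρ v) ?_
        calc ρ x * ρ w * ρ v = ρ x * ρ v * ρ w := by rw [mul_assoc, ← hwv, mul_assoc]
          _ = ρ w * (ρ x * ρ v) * (ρ w)⁻¹ * ρ w := by rw [hfix]
          _ = ρ w * ρ x * ρ v := by group
      have hQL : Q ≤ L := by
        intro u hu
        obtain ⟨s, hs⟩ := hclass u hu
        rw [← QuotientGroup.eq_one_iff]
        have h1 : (x : S ⧸ L) * u = x := by
          rw [← QuotientGroup.mk_mul, ← hs, QuotientGroup.mk_mul, QuotientGroup.mk_mul, ← hxw s,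
            QuotientGroup.mk_inv, mul_inv_cancel_right]
        exact mul_eq_left.1 h1
      obtain ⟨m, hm⟩ := Subgroup.nilpotent_iff_lowerCentralSeries.1 (inferInstance : Group.IsNilpotent S)
      have hlow : ∀ i, Q ≤ (⊤ : Subgroup S).lowerCentralSeries i := by
        intro i
        induction i with
        | zero => rw [Subgroup.lowerCentralSeries_zero]; exact le_top
        | succ i ih =>
          rw [Subgroup.lowerCentralSeries_succ]
          exact hQL.trans (commutator_mono ih le_rfl)
      exact le_bot_iff.1 (hm ▸ hlow m)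
    have : x ^ Nat.card (commutator S) = 1 :=
      congrArg Subtype.val (pow_card_eq_one' (x := (⟨x, hxD⟩ : commutator S)))
    rw [hQ2, hQbot, card_bot, mul_one] at this
    rw [show 4 = 2 * 2 from rfl, pow_mul, this, one_pow]

end CfsgLib.OneClassDerived
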