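import Cfsg.Agent.Lib.OneClassDerived.Camina
import Cfsg.Agent.Lib.OneClassDerived.TwoCase
import Cfsg.Agent.Lib.FpfFour.Solvable
import Cfsg.Agent.Lib.Frobenius.FPFThompson
import Cfsg.Agent.Lib.Transfer.Tate
import Cfsg.Agent.Lib.PGroup.Frattini
import Cfsg.Agent.Lib.Structure81.CaminaPair
import Cfsg.Agent.Lib.InvChar.InvolutionCount
import Mathlib.GroupTheory.SchurZassenhaus

/-!
# Groups in which `G' ∖ K` is a single conjugacy class

If `K ≤ G'` is normal, `G' ∖ K` is one class and `G' / K` contains the centre of `G / K`, then `G`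
is solvable. Tate gives a `p'`-subgroup `R` with `K / R` a `p`-group; `g` acts fixed-point-freely on
`R` and has order `p` or four.
-/

set_option autoImplicit false

namespace CfsgLib.OneClassDerived

open Subgroup
open scoped commutatorElement

variable {G : Type*} [Group G] [Finite G]

theorem solvable_of_derived_diff_class (K : Subgroup G) [K.Normal] (g : G)
    (hKD : K ≤ commutator G) (hgD : g ∈ commutator G) (hgK : g ∉ K)
    (hclass : ∀ x ∈ commutator G, x ∉ K → IsConj g x)
    (hcentre : ∀ m : G, (∀ y : G, ⁅m, y⁆ ∈ K) → m ∈ commutator G) : Group.IsSolvable G := by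
  classical
  set D := commutator G with hDdef
  let π := QuotientGroup.mk' K
  have hπ : Function.Surjective π := QuotientGroup.mk'_surjective K
  have hπ1 : ∀ x, π x = 1 ↔ x ∈ K := fun x => QuotientGroup.eq_one_iff x
  set Db := D.map π with hDb
  have hmemDb : ∀ x, π x ∈ Db ↔ x ∈ D := fun x => by
    rw [← mem_comap, hDb, comap_map_eq, QuotientGroup.ker_mk', sup_eq_left.2 hKD]
  haveI : Db.Normal := Normal.map inferInstance π hπ
  have hconjb : ∀ y ∈ Db, y ≠ 1 → IsConj (π g) y := by
    rintro _ ⟨x, hx, rfl⟩ hne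
    exact π.map_isConj (hclass x hx fun h => hne ((hπ1 x).2 h))
  have hgb : π g ≠ 1 := fun h => hgK ((hπ1 g).1 h)
  -- the prime
  set p := (orderOf (π g)).minFac with hpdef
  have hr1 : orderOf (π g) ≠ 1 := fun h => hgb (orderOf_eq_one_iff.1 h)
  have hp : p.Prime := Nat.minFac_prime hr1
  haveI : Fact p.Prime := ⟨hp⟩
  have hordg : orderOf (π g) = p := by
    set r := orderOf (π g)
    have hpr : p ∣ r := Nat.minFac_dvd r
    have hr0 : 0 < r := orderOf_pos _
    have hord : orderOf (π g ^ (r / p)) = p := by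
      rw [orderOf_pow_of_dvd (Nat.div_pos (Nat.le_of_dvd hr0 hpr) hp.pos).ne' (Nat.div_dvd_of_dvd hpr)]
      exact Nat.div_div_self hpr hr0.ne'
    have hne : π g ^ (r / p) ≠ 1 := fun h => hp.ne_one (by rw [← hord, h, orderOf_one])
    obtain ⟨c, hc⟩ := isConj_iff.1 (hconjb _ (pow_mem (mem_map_of_mem π hgD) _) hne)
    calc r = orderOf (MulAut.conj c (π g)) := (MulEquiv.orderOf_eq (MulAut.conj c) (π g)).symm
      _ = p := by rw [MulAut.conj_apply, hc, hord]
  have hbp : ∀ y ∈ Db, y ^ p = 1 := by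
    intro y hy
    by_cases hy1 : y = 1
    · rw [hy1, one_pow]
    obtain ⟨c, rfl⟩ := isConj_iff.1 (hconjb y hy hy1)
    rw [← MulAut.conj_apply, ← map_pow, ← hordg, pow_orderOf_eq_one, map_one]
  -- `g` is a `p`-element
  obtain ⟨k, hk⟩ : ∃ k, ∀ x ∈ D, x ∉ K → x ^ p ^ k = 1 := by
    obtain ⟨e, k, he, hk⟩ := CfsgLib.Structure81.Camina.exists_pow_lift π hp g (j := 1)
      (by rw [pow_one, ← hordg]; exact pow_orderOf_eq_one _)
    refine ⟨k, fun x hxD hxK => ?_⟩
    obtain ⟨c, hc⟩ := isConj_iff.1 ((hclass (g ^ e) (pow_mem hgD e)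
      fun h => hgb (by rw [← he]; exact (hπ1 _).2 h)).symm.trans (hclass x hxD hxK))
    rw [← hc, ← MulAut.conj_apply, ← map_pow, hk, map_one]
  -- `D / K` is abelian
  have hDbab : ∀ a ∈ Db, ∀ b ∈ Db, a * b = b * a := by
    have hP : IsPGroup p Db := fun y => ⟨1, Subtype.ext (by simpa using hbp y y.2)⟩
    haveI : Nontrivial Db := ⟨⟨⟨π g, mem_map_of_mem π hgD⟩, 1, fun h => hgb (congrArg Subtype.val h)⟩⟩
    haveI := hP.center_nontrivial
    obtain ⟨⟨z, hz⟩, hz1⟩ := exists_ne (1 : center Db)
    have hz1' : (z : G ⧸ K) ≠ 1 := fun h => hz1 (Subtype.ext (Subtype.ext h))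
    intro a ha b hb
    by_cases ha1 : a = 1
    · rw [ha1, one_mul, mul_one]
    obtain ⟨c, rfl⟩ := isConj_iff.1 ((hconjb z z.2 hz1').symm.trans (hconjb a ha ha1))
    have hmem : c⁻¹ * b * c ∈ Db := by simpa using Normal.conj_mem inferInstance b hb c⁻¹
    have h := congrArg Subtype.val (mem_center_iff.1 hz ⟨_, hmem⟩)
    simp only [coe_mul] at h
    calc c * z * c⁻¹ * b = c * (z * (c⁻¹ * b * c)) * c⁻¹ := by group
      _ = c * (c⁻¹ * b * c * z) * c⁻¹ := by rw [h]
      _ = b * (c * z * c⁻¹) := by group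
  have hDD : ⁅D, D⁆ ≤ K := by
    rw [Subgroup.commutator_le]
    intro a ha b hb
    rw [← hπ1, map_commutatorElement, commutatorElement_eq_one_iff_mul_comm]
    exact hDbab _ (mem_map_of_mem π ha) _ (mem_map_of_mem π hb)
  have hDp : ∀ x ∈ D, x ^ p ∈ K := fun x hx => by
    rw [← hπ1, map_pow]; exact hbp _ (mem_map_of_mem π hx)
  obtain ⟨n, hn⟩ := IsPGroup.iff_card.1
    (show IsPGroup p Db from fun y => ⟨1, Subtype.ext (by simpa using hbp y y.2)⟩)
  have hn0 : n ≠ 0 := fun h => hgb (mem_bot.1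
    ((card_eq_one.1 (by rw [hn, h, pow_zero]) : Db = ⊥) ▸ mem_map_of_mem π hgD))
  have hDcard : Nat.card D = p ^ n * Nat.card K := by
    rw [← hn, hDb, ← relIndex_ker, QuotientGroup.ker_mk', mul_comm,
      ← Nat.card_congr (subgroupOfEquivOfLe hKD).toEquiv]
    exact (card_mul_index _).symm
  -- the centraliser of `g` modulo `K`
  set N := (centralizer ({π g} : Set (G ⧸ K))).comap π with hN
  have hmemN : ∀ y, y ∈ N ↔ π y * π g = π g * π y := fun y => mem_centralizer_singleton_iff
  have hDN : D ≤ N := fun y hy => (hmemN y).2 (hDbab _ (mem_map_of_mem π hy) _ (mem_map_of_mem π hgD))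
  haveI hNn : N.Normal := ⟨fun y hy c => by
    have h : c * y * c⁻¹ * y⁻¹ ∈ D :=
      commutator_mem_commutator (mem_top c) (mem_top y)
    have := N.mul_mem (hDN h) hy
    simpa using this⟩
  have hNv : ∀ y ∈ N, ∀ v ∈ Db, π y * v = v * π y := by
    intro y hy v hv
    by_cases hv1 : v = 1
    · rw [hv1, one_mul, mul_one]
    obtain ⟨c, rfl⟩ := isConj_iff.1 (hconjb v hv hv1)
    obtain ⟨d, rfl⟩ := hπ c
    have h := (hmemN _).1 (hNn.conj_mem y hy d⁻¹)
    simp only [map_mul, map_inv, inv_inv] at h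
    calc π y * (π d * π g * (π d)⁻¹) = π d * ((π d)⁻¹ * π y * π d * π g) * (π d)⁻¹ := by group
      _ = π d * (π g * ((π d)⁻¹ * π y * π d)) * (π d)⁻¹ := by rw [h]
      _ = π d * π g * (π d)⁻¹ * π y := by group
  have hvN : ∀ v ∈ Db, v ≠ 1 → ∀ y, π y * v = v * π y → y ∈ N := by
    intro v hv hv1 y hy
    obtain ⟨c, rfl⟩ := isConj_iff.1 (hconjb v hv hv1)
    obtain ⟨d, rfl⟩ := hπ c
    have h1 : d⁻¹ * y * d ∈ N := by
      rw [hmemN, map_mul, map_mul, map_inv]
      calc (π d)⁻¹ * π y * π d * π g = (π d)⁻¹ * (π y * (π d * π g * (π d)⁻¹)) * π d := by group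
        _ = (π d)⁻¹ * (π d * π g * (π d)⁻¹ * π y) * π d := by rw [hy]
        _ = π g * ((π d)⁻¹ * π y * π d) := by group
    simpa [mul_assoc] using hNn.conj_mem _ h1 d
  letI : Fintype (G ⧸ K) := Fintype.ofFinite _
  have hNi : N.index = p ^ n - 1 := by
    rw [hN, index_comap_of_surjective _ hπ, ← CfsgLib.InvChar.ncard_conjugates]
    have hset : {y : G ⧸ K | IsConj (π g) y} = (Db : Set (G ⧸ K)) \ {1} := by
      ext y
      refine ⟨fun h => ?_, fun h => hconjb y h.1 h.2⟩
      obtain ⟨c, rfl⟩ := isConj_iff.1 h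
      exact ⟨Normal.conj_mem inferInstance _ (mem_map_of_mem π hgD) c,
        fun h1 => hgb (conj_eq_one_iff.1 h1)⟩
    rw [hset, Set.ncard_sdiff (by simp : ({1} : Set (G ⧸ K)) ⊆ (Db : Set (G ⧸ K))),
      Set.ncard_singleton, ← hn]
    rfl
  have hpn : ¬ p ∣ p ^ n - 1 := by
    intro h
    have := Nat.dvd_sub (dvd_pow_self p hn0) h
    rw [Nat.sub_sub_self (Nat.one_le_pow _ _ hp.pos)] at this
    exact hp.ne_one (Nat.dvd_one.1 this)
  set C := centralizer ({g} : Set G) with hC
  have hCN : C ≤ N := fun c hc => (hmemN c).2 (by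
    rw [← map_mul, ← map_mul, mem_centralizer_singleton_iff.1 hc])
  -- `|N| = |C| |K|`
  have hNcard : Nat.card N = Nat.card C * Nat.card K := by
    have hex : ∀ u : K, ∃ c : N, (c : G) * g * (c : G)⁻¹ = g * u := fun u => by
      obtain ⟨c, hc⟩ := isConj_iff.1 (hclass (g * u) (D.mul_mem hgD (hKD u.2))
        fun h => hgK ((K.mul_mem_cancel_right u.2).1 h))
      refine ⟨⟨c, (hmemN c).2 ?_⟩, hc⟩
      have h := congrArg π hc
      rw [map_mul, map_mul, map_mul, (hπ1 _).2 u.2, mul_one, map_inv, mul_inv_eq_iff_eq_mul] at h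
      exact h
    choose f hf using hex
    let F : C × K → N := fun z => ⟨(f z.2 : G) * z.1, N.mul_mem (f z.2).2 (hCN z.1.2)⟩
    have hFconj : ∀ z, (F z : G) * g * (F z : G)⁻¹ = g * z.2 := by
      rintro ⟨c, u⟩
      show (f u : G) * c * g * ((f u : G) * c)⁻¹ = g * u
      rw [mul_inv_rev, mul_assoc (f u : G) (c : G) g, mem_centralizer_singleton_iff.1 c.2, ← hf u]
      group
    have hF : Function.Bijective F := by
      constructor
      · rintro ⟨c, u⟩ ⟨c', u'⟩ h
        have huu : u = u' := Subtype.ext (mul_left_cancel (a := g) (by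
          rw [← hFconj (c, u), ← hFconj (c', u'), h]))
        subst huu
        simpa using Subtype.ext (mul_left_cancel (congrArg Subtype.val h))
      · rintro ⟨y, hy⟩
        have hu : g⁻¹ * (y * g * y⁻¹) ∈ K := by
          rw [← hπ1]
          simp only [map_mul, map_inv]
          rw [(hmemN y).1 hy]
          group
        set u : K := ⟨_, hu⟩
        have h1 : (f u : G) * g * (f u : G)⁻¹ = y * g * y⁻¹ := by rw [hf u]; simp [u]
        refine ⟨(⟨(f u : G)⁻¹ * y, ?_⟩, u), Subtype.ext (by simp [F])⟩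
        rw [hC, mem_centralizer_singleton_iff]
        calc (f u : G)⁻¹ * y * g = (f u : G)⁻¹ * (y * g * y⁻¹) * y := by group
          _ = (f u : G)⁻¹ * ((f u : G) * g * (f u : G)⁻¹) * y := by rw [h1]
          _ = g * ((f u : G)⁻¹ * y) := by group
    rw [← Nat.card_congr (Equiv.ofBijective F hF), Nat.card_prod]
  -- a Sylow subgroup meeting `K` inside its derived subgroup
  obtain ⟨R, hRn, hRK, hRmem, hRp⟩ : ∃ R : Subgroup G, R.Normal ∧ R ≤ K ∧
      (∀ x, x ∈ R ↔ x ∈ K ∧ ¬ p ∣ orderOf x) ∧ ∀ x ∈ K, ∃ j, x ^ p ^ j ∈ R := by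
    have hgC : g ∈ C := mem_centralizer_singleton_iff.2 rfl
    obtain ⟨P0⟩ : Nonempty (Sylow p C) := inferInstance
    have hgP0 : (⟨g, hgC⟩ : C) ∈ (P0 : Subgroup C) := by
      haveI : (zpowers (⟨g, hgC⟩ : C)).Normal := ⟨fun z hz c => by
        obtain ⟨i, rfl⟩ := mem_zpowers_iff.1 hz
        rw [← MulAut.conj_apply, map_zpow]
        refine zpow_mem ?_ i
        have : MulAut.conj c (⟨g, hgC⟩ : C) = ⟨g, hgC⟩ := Subtype.ext (by
          show (c : G) * g * (c : G)⁻¹ = g
          rw [mem_centralizer_singleton_iff.1 c.2, mul_inv_cancel_right])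
        rw [this]; exact mem_zpowers _⟩
      refine IsPGroup.le_sylow_of_normal ?_ P0 (mem_zpowers _)
      refine IsPGroup.of_card (n := (orderOf (⟨g, hgC⟩ : C)).factorization p) ?_
      rw [Nat.card_zpowers, Subgroup.orderOf_mk]
      obtain ⟨j, -, hj⟩ := (Nat.dvd_prime_pow hp).1 (orderOf_dvd_of_pow_eq_one (hk g hgD hgK))
      rw [hj, hp.factorization_pow, Finsupp.single_eq_same]
    obtain ⟨Pn, hPn⟩ := (P0.2.map (inclusion hCN)).exists_le_sylow
    have hNv' : (Nat.card G).factorization p = (Nat.card N).factorization p := by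
      rw [← N.card_mul_index, Nat.factorization_mul Nat.card_pos.ne' N.index_ne_zero_of_finite,
        Finsupp.add_apply, hNi, Nat.factorization_eq_zero_of_not_dvd hpn, add_zero]
    let S : Sylow p G := Sylow.ofCard ((Pn : Subgroup N).map N.subtype) (by
      rw [card_map_of_injective N.subtype_injective, Pn.card_eq_multiplicity, hNv'])
    have hSN : (S : Subgroup G) ≤ N := map_subtype_le _
    have hgS : g ∈ (S : Subgroup G) :=
      ⟨inclusion hCN ⟨g, hgC⟩, hPn (mem_map_of_mem _ hgP0), rfl⟩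
    set Q := K ⊓ (S : Subgroup G) with hQ
    have hQc : Q ≤ ⁅(S : Subgroup G), (S : Subgroup G)⁆ := by
      have horb : ∀ s : (S : Subgroup G), g⁻¹ * ((s : G) * g * (s : G)⁻¹) ∈ Q := fun s => by
        refine ⟨(hπ1 _).1 ?_, Subgroup.mul_mem _ (Subgroup.inv_mem _ hgS) (Subgroup.mul_mem _ (Subgroup.mul_mem _ s.2 hgS) (Subgroup.inv_mem _ s.2))⟩
        simp only [map_mul, map_inv]
        rw [(hmemN s).1 (hSN s.2)]
        group
      let f : ↥(S : Subgroup G) → Q := fun s => ⟨_, horb s⟩
      have hsurj : Function.Surjective f := by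
        have hCS : Nat.card (C ⊓ (S : Subgroup G) : Subgroup G) ≤ p ^ (Nat.card C).factorization p := by
          obtain ⟨j, hj⟩ := IsPGroup.iff_card.1 (S.2.to_le (inf_le_right : C ⊓ (S : Subgroup G) ≤ S))
          rw [hj]
          refine Nat.pow_le_pow_right hp.pos ((hp.pow_dvd_iff_le_factorization Nat.card_pos.ne').1 ?_)
          exact hj ▸ card_dvd_of_le inf_le_left
        have hQle : Nat.card Q ≤ p ^ (Nat.card K).factorization p := by
          obtain ⟨j, hj⟩ := IsPGroup.iff_card.1 (S.2.to_le (inf_le_right : Q ≤ S))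
          rw [hj]
          refine Nat.pow_le_pow_right hp.pos ((hp.pow_dvd_iff_le_factorization Nat.card_pos.ne').1 ?_)
          exact hj ▸ card_dvd_of_le inf_le_left
        -- the fibres of `f` are the cosets of `C ⊓ S`
        choose r hr using fun v : Set.range f => v.2
        let E : ↥(S : Subgroup G) → Set.range f × (C ⊓ (S : Subgroup G) : Subgroup G) := fun s =>
          (⟨f s, s, rfl⟩, ⟨((r ⟨f s, s, rfl⟩ : (S : Subgroup G)) : G)⁻¹ * s, by
            refine ⟨?_, Subgroup.mul_mem _ (Subgroup.inv_mem _ (SetLike.coe_mem _)) s.2⟩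
            have h : f (r ⟨f s, s, rfl⟩) = f s := hr _
            have h1 := congrArg Subtype.val h
            simp only [f, mul_right_inj] at h1
            show _ ∈ centralizer ({g} : Set G)
            rw [mem_centralizer_singleton_iff]
            generalize ((r ⟨f s, s, rfl⟩ : (S : Subgroup G)) : G) = y at h1
            calc y⁻¹ * (s : G) * g = y⁻¹ * ((s : G) * g * (s : G)⁻¹) * s := by group
              _ = y⁻¹ * (y * g * y⁻¹) * s := by rw [h1]
              _ = g * (y⁻¹ * s) := by group⟩)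
        have hE : Function.Injective E := fun s t h => by
          have h1 : (⟨f s, s, rfl⟩ : Set.range f) = ⟨f t, t, rfl⟩ := congrArg Prod.fst h
          have h2 := congrArg (fun z => ((Prod.snd z : (C ⊓ (S : Subgroup G) : Subgroup G)) : G)) h
          simp only [E] at h2
          rw [h1] at h2
          exact Subtype.ext (mul_left_cancel h2)
        have hle := Nat.card_le_card_of_injective E hE
        rw [Nat.card_prod, S.card_eq_multiplicity, hNv', hNcard,
          Nat.factorization_mul Nat.card_pos.ne' Nat.card_pos.ne', Finsupp.add_apply, pow_add] at hle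
        have h3 : Nat.card (Set.range f) = Nat.card Q := by
          refine le_antisymm (Nat.card_le_card_of_injective (Subtype.val) Subtype.val_injective) ?_
          have h4 := hle.trans (Nat.mul_le_mul_left _ hCS)
          rw [mul_comm (Nat.card (Set.range f))] at h4
          exact hQle.trans (Nat.le_of_mul_le_mul_left h4 (pow_pos hp.pos _))
        intro v
        have h5 : Function.Bijective (Subtype.val : Set.range f → Q) :=
          (Nat.bijective_iff_injective_and_card _).2 ⟨Subtype.val_injective, h3⟩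
        obtain ⟨⟨w, hw⟩, rfl⟩ := h5.2 v
        exact hw
      intro u hu
      obtain ⟨s, hs⟩ := hsurj ⟨u, hu⟩
      have hv : g⁻¹ * ((s : G) * g * (s : G)⁻¹) = u := congrArg Subtype.val hs
      have h : ⁅g⁻¹, (s : G)⁆ = u := by
        rw [commutatorElement_def, inv_inv, ← hv]
        group
      exact h ▸ commutator_mem_commutator (inv_mem hgS) s.2
    obtain ⟨P, R0, hR0, hcompl⟩ := CfsgLib.Transfer.hasNormalPComplement_normal S K (by
      refine le_trans hQc ?_
      rw [← map_subtype_commutator]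
      exact map_mono (CfsgLib.PGroup.commutator_le_frattini S.2))
    have hR0c : ¬ p ∣ Nat.card R0 := by
      rw [← hcompl.index_eq_card]
      exact P.not_dvd_index
    have hR0i : ∃ j, R0.index = p ^ j := ⟨_, by rw [hcompl.symm.index_eq_card, P.card_eq_multiplicity]⟩
    have hchar : ∀ x, x ∈ R0.map K.subtype ↔ x ∈ K ∧ ¬ p ∣ orderOf x := by
      intro x
      constructor
      · rintro ⟨y, hy, rfl⟩
        refine ⟨y.2, fun h => hR0c (h.trans ?_)⟩
        rw [show (K.subtype y) = (y : G) from rfl, Subgroup.orderOf_coe]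
        exact orderOf_dvd_of_pow_eq_one
          (congrArg Subtype.val (pow_card_eq_one' (x := (⟨y, hy⟩ : R0))) :)
      · rintro ⟨hx, hpx⟩
        refine ⟨⟨x, hx⟩, ?_, rfl⟩
        haveI := hR0
        obtain ⟨j, hj⟩ := hR0i
        rw [SetLike.mem_coe, ← QuotientGroup.eq_one_iff, ← orderOf_eq_one_iff]
        have h1 : orderOf ((⟨x, hx⟩ : K) : K ⧸ R0) ∣ p ^ j :=
          hj ▸ index_eq_card R0 ▸ orderOf_dvd_natCard _
        have h2 : orderOf ((⟨x, hx⟩ : K) : K ⧸ R0) ∣ orderOf x := by
          have h3 := orderOf_map_dvd (QuotientGroup.mk' R0) (⟨x, hx⟩ : K)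
          rw [Subgroup.orderOf_mk] at h3
          exact h3
        exact Nat.eq_one_of_dvd_coprimes
          (Nat.Coprime.pow_left j ((hp.coprime_iff_not_dvd).2 hpx)) h1 h2
    refine ⟨R0.map K.subtype, ⟨fun x hx c => ?_⟩, map_subtype_le _, hchar, fun x hx => ?_⟩
    · obtain ⟨h1, h2⟩ := (hchar x).1 hx
      refine (hchar _).2 ⟨Normal.conj_mem inferInstance x h1 c, ?_⟩
      rwa [← MulAut.conj_apply, MulEquiv.orderOf_eq]
    · refine ⟨(orderOf x).factorization p, (hchar _).2 ⟨K.pow_mem hx _, ?_⟩⟩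
      rw [orderOf_pow_of_dvd (pow_pos hp.pos _).ne' (Nat.ordProj_dvd _ _)]
      exact Nat.not_dvd_ordCompl hp (orderOf_pos x).ne'
  haveI := hRn
  have hR1 : ∀ r ∈ R, ∀ j, r ^ p ^ j = 1 → r = 1 := fun r hr j hj => by
    rw [← orderOf_eq_one_iff]
    exact Nat.eq_one_of_dvd_coprimes
      (Nat.Coprime.pow_left j ((hp.coprime_iff_not_dvd).2 ((hRmem r).1 hr).2))
      (orderOf_dvd_of_pow_eq_one hj) dvd_rfl
  -- `g` has no fixed points on `R`
  have hfree : ∀ r ∈ R, g * r = r * g → r = 1 := by
    intro r hr hc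
    refine hR1 r hr k ?_
    have h := hk (g * r) (D.mul_mem hgD (hKD (hRK hr))) fun h => hgK ((K.mul_mem_cancel_right (hRK hr)).1 h)
    rwa [(show Commute g r from hc).mul_pow, hk g hgD hgK, one_mul] at h
  -- passage to `G / R`
  let ρ := QuotientGroup.mk' R
  have hρ : Function.Surjective ρ := QuotientGroup.mk'_surjective R
  have hmemT : ∀ x, ρ x ∈ D.map ρ ↔ x ∈ D := fun x => by
    rw [← mem_comap, comap_map_eq, QuotientGroup.ker_mk', sup_eq_left.2 (hRK.trans hKD)]
  have hmemQ : ∀ x, ρ x ∈ K.map ρ ↔ x ∈ K := fun x => by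
    rw [← mem_comap, comap_map_eq, QuotientGroup.ker_mk', sup_eq_left.2 hRK]
  haveI : (D.map ρ).Normal := Normal.map inferInstance ρ hρ
  haveI : (K.map ρ).Normal := Normal.map inferInstance ρ hρ
  have hTp : IsPGroup p (D.map ρ) := by
    rintro ⟨_, x, hx, rfl⟩
    by_cases hxK : x ∈ K
    · obtain ⟨j, hj⟩ := hRp x hxK
      exact ⟨j, Subtype.ext (show ρ x ^ p ^ j = 1 by rw [← map_pow]; exact (QuotientGroup.eq_one_iff _).2 hj)⟩
    · exact ⟨k, Subtype.ext (show ρ x ^ p ^ k = 1 by rw [← map_pow, hk x hx hxK, map_one])⟩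
  have hQcard : ∀ A : Subgroup G, R ≤ A → Nat.card (A.map ρ) * Nat.card R = Nat.card A := by
    intro A hA
    rw [← relIndex_ker, QuotientGroup.ker_mk', mul_comm,
      ← Nat.card_congr (subgroupOfEquivOfLe hA).toEquiv]
    exact card_mul_index _
  have hTQ : Nat.card (D.map ρ) = p ^ n * Nat.card (K.map ρ) := by
    refine Nat.eq_of_mul_eq_mul_right (Nat.card_pos (α := R)) ?_
    rw [hQcard D (hRK.trans hKD), mul_assoc, hQcard K hRK, hDcard]
  -- the order of `g`
  have hgord : g ^ p = 1 ∨ g ^ 4 = 1 := by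
    suffices h : ∃ x ∈ D, x ∉ K ∧ (ρ x ^ p = 1 ∨ ρ x ^ 4 = 1) by
      obtain ⟨x, hxD, hxK, hx⟩ := h
      obtain ⟨c, rfl⟩ := isConj_iff.1 (hclass x hxD hxK)
      have key : ∀ m : ℕ, ρ (c * g * c⁻¹) ^ m = 1 → g ^ m = 1 := by
        intro m hm
        rw [← map_pow, QuotientGroup.mk'_apply, QuotientGroup.eq_one_iff] at hm
        have h1 := hR1 _ hm k (by rw [← pow_mul, mul_comm, pow_mul, hk _ hxD hxK, one_pow])
        rw [← MulAut.conj_apply, ← map_pow] at h1
        exact (MulEquiv.map_eq_one_iff _).1 h1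
      exact hx.imp (key p) (key 4)
    by_cases hq2 : p ^ n = 2
    · -- `p ^ n = 2`
      have hp2 : p = 2 := (Nat.prime_dvd_prime_iff_eq hp Nat.prime_two).1 (hq2 ▸ dvd_pow_self p hn0)
      have hNtop : N = ⊤ := index_eq_one.1 (by rw [hNi, hq2])
      have hsq : ∀ m : G, m * m ∈ D := by
        intro m
        refine hcentre _ fun y => ?_
        rw [← hπ1, map_commutatorElement, map_mul]
        have he : ⁅π m, π y⁆ ∈ Db := by
          rw [← map_commutatorElement, hmemDb]
          exact commutator_mem_commutator (mem_top _) (mem_top _)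
        have h1 : π m * ⁅π m, π y⁆ * (π m)⁻¹ = ⁅π m, π y⁆ := by
          rw [hNv m (hNtop ▸ mem_top m) _ he, mul_inv_cancel_right]
        calc ⁅π m * π m, π y⁆ = π m * ⁅π m, π y⁆ * (π m)⁻¹ * ⁅π m, π y⁆ := by
              simp only [commutatorElement_def]; group
          _ = ⁅π m, π y⁆ ^ p := by rw [h1, hp2, pow_two]
          _ = 1 := hbp _ he
      have hSp : IsPGroup 2 (G ⧸ R) := by
        intro y
        obtain ⟨x, rfl⟩ := hρ y
        obtain ⟨j, hj⟩ := hp2 ▸ hTp ⟨ρ (x * x), mem_map_of_mem ρ (hsq x)⟩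
        refine ⟨j + 1, ?_⟩
        have h : ρ (x * x) ^ 2 ^ j = 1 := congrArg Subtype.val hj
        rw [pow_succ', pow_mul, pow_two, ← map_mul, h]
      have hcomm : commutator (G ⧸ R) = D.map ρ := by
        rw [hDdef, _root_.commutator_def, _root_.commutator_def, map_commutator,
          Subgroup.map_top_of_surjective ρ hρ]
      have hxK' : ρ g ∉ K.map ρ := fun h => hgK ((hmemQ g).1 h)
      refine ⟨g, hgD, hgK, Or.inr (pow_four_of_class hSp (K.map ρ) (hcomm ▸ map_mono hKD) ?_ (ρ g)
        (hcomm ▸ mem_map_of_mem ρ hgD) hxK' ?_ ?_ ?_ ?_)⟩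
      · rw [hcomm, hTQ, hq2]
      · rintro _ ⟨u, hu, rfl⟩
        obtain ⟨c, hc⟩ := isConj_iff.1 (hclass (g * u) (D.mul_mem hgD (hKD hu))
          fun h => hgK ((K.mul_mem_cancel_right hu).1 h))
        exact ⟨ρ c, by rw [← map_inv, ← map_mul, ← map_mul, hc, map_mul]⟩
      · have hset : {y : G ⧸ R | IsConj (ρ g) y} = (D.map ρ : Set (G ⧸ R)) \ (K.map ρ : Set (G ⧸ R)) := by
          ext y
          constructor
          · intro h
            obtain ⟨c, rfl⟩ := isConj_iff.1 h
            refine ⟨Normal.conj_mem inferInstance _ (mem_map_of_mem ρ hgD) c, fun h1 => hxK' ?_⟩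
            simpa [mul_assoc] using Normal.conj_mem (inferInstance : (K.map ρ).Normal) _ h1 c⁻¹
          · rintro ⟨⟨x, hx, rfl⟩, hxQ⟩
            exact ρ.map_isConj (hclass x hx fun h => hxQ (mem_map_of_mem ρ h))
        letI : Fintype (G ⧸ R) := Fintype.ofFinite _
        have h1 := (centralizer ({ρ g} : Set (G ⧸ R))).card_mul_index
        rw [← CfsgLib.InvChar.ncard_conjugates, hset,
          Set.ncard_sdiff (SetLike.coe_subset_coe.2 (map_mono hKD))] at h1
        have h2 : (D.map ρ : Set (G ⧸ R)).ncard - (K.map ρ : Set (G ⧸ R)).ncard = Nat.card (K.map ρ) := by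
          show Nat.card (D.map ρ) - Nat.card (K.map ρ) = _
          rw [hTQ, hq2]; omega
        rwa [h2] at h1
      · intro h hh
        obtain ⟨m, rfl⟩ := hρ h
        rw [hcomm, hmemT]
        refine hcentre m fun y => ?_
        have := hh (ρ y)
        rwa [← map_commutatorElement, hmemQ] at this
      · -- the index of the derived subgroup
        rw [hcomm, index_map, QuotientGroup.ker_mk', sup_eq_left.2 (hRK.trans hKD),
          MonoidHom.range_eq_top.2 hρ, index_top, mul_one]
        by_contra hlt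
        have hlt : D.index ≤ 3 := by omega
        refine hgK ((?_ : D ≤ K) hgD)
        have hDcen : Db ≤ center (G ⧸ K) := fun v hv => mem_center_iff.2 fun y => by
          obtain ⟨y, rfl⟩ := hπ y
          exact hNv y (hNtop ▸ mem_top y) v hv
        let φ : G ⧸ K →* G ⧸ D := QuotientGroup.map K D (MonoidHom.id G) hKD
        have hker : φ.ker ≤ center (G ⧸ K) := fun v hv => by
          obtain ⟨x, rfl⟩ := hπ v
          exact hDcen ((hmemDb x).2 ((QuotientGroup.eq_one_iff x).1 hv))
        haveI : IsCyclic (G ⧸ D) := by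
          have h0 : D.index ≠ 0 := D.index_ne_zero_of_finite
          rw [index_eq_card] at hlt h0
          rcases (show Nat.card (G ⧸ D) = 1 ∨ Nat.card (G ⧸ D) = 2 ∨ Nat.card (G ⧸ D) = 3 by omega)
            with h | h | h
          · haveI : Subsingleton (G ⧸ D) := (Nat.card_eq_one_iff_unique.1 h).1
            exact isCyclic_of_subsingleton
          · haveI : Fact (Nat.Prime 2) := ⟨Nat.prime_two⟩
            exact isCyclic_of_prime_card h
          · haveI : Fact (Nat.Prime 3) := ⟨Nat.prime_three⟩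
            exact isCyclic_of_prime_card h
        rw [hDdef, _root_.commutator_def, Subgroup.commutator_le]
        intro a _ b _
        rw [← hπ1, map_commutatorElement, commutatorElement_eq_one_iff_mul_comm]
        exact commutative_of_cyclic_center_quotient φ hker (π a) (π b)
    · -- `2 < p ^ n`
      have hNtop : N ≠ ⊤ := fun h => by
        have h1 := hNi
        rw [h, index_top] at h1
        omega
      obtain ⟨c, hc⟩ : ∃ c, c ∉ N := by
        by_contra h
        push Not at h
        exact hNtop ((eq_top_iff' N).2 h)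
      have hND : N = D := by
        refine le_antisymm (fun m hm => ?_) hDN
        have hmemE : ∀ a b : G ⧸ K, ⁅a, b⁆ ∈ Db := fun a b => by
          obtain ⟨a, rfl⟩ := hπ a
          obtain ⟨b, rfl⟩ := hπ b
          rw [← map_commutatorElement, hmemDb]
          exact commutator_mem_commutator (mem_top _) (mem_top _)
        have hinj : Function.Injective (fun v : Db => (⟨⁅(v : G ⧸ K), π c⁆, hmemE _ _⟩ : Db)) := by
          intro v w h
          have h1 : (v : G ⧸ K) * π c * (v : G ⧸ K)⁻¹ * (π c)⁻¹ =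
              (w : G ⧸ K) * π c * (w : G ⧸ K)⁻¹ * (π c)⁻¹ := congrArg Subtype.val h
          simp only [mul_left_inj] at h1
          by_contra hne
          refine hc (hvN ((w : G ⧸ K)⁻¹ * v) (mul_mem (inv_mem w.2) v.2)
            (fun h' => hne (Subtype.ext (inv_mul_eq_one.1 h').symm)) c ?_)
          calc π c * ((w : G ⧸ K)⁻¹ * v) = (w : G ⧸ K)⁻¹ * ((w : G ⧸ K) * π c * (w : G ⧸ K)⁻¹) * v := by group
            _ = (w : G ⧸ K)⁻¹ * ((v : G ⧸ K) * π c * (v : G ⧸ K)⁻¹) * v := by rw [h1]
            _ = (w : G ⧸ K)⁻¹ * v * π c := by group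
        obtain ⟨v, hv⟩ := (Finite.injective_iff_surjective.1 hinj) ⟨⁅π m, π c⁆, hmemE _ _⟩
        have hv' : ⁅(v : G ⧸ K), π c⁆ = ⁅π m, π c⁆ := congrArg Subtype.val hv
        obtain ⟨v0, hv0, hv0e⟩ := v.2
        set m' := v0⁻¹ * m with hm'
        have hm'N : m' ∈ N := N.mul_mem (N.inv_mem (hDN hv0)) hm
        have hm'c : π m' * π c = π c * π m' := by
          have h1 : π m * π c * (π m)⁻¹ = (v : G ⧸ K) * π c * (v : G ⧸ K)⁻¹ := by
            simp only [commutatorElement_def] at hv'
            exact (mul_right_cancel hv').symm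
          rw [hm', map_mul, map_inv, hv0e]
          calc (v : G ⧸ K)⁻¹ * π m * π c = (v : G ⧸ K)⁻¹ * (π m * π c * (π m)⁻¹) * π m := by group
            _ = (v : G ⧸ K)⁻¹ * ((v : G ⧸ K) * π c * (v : G ⧸ K)⁻¹) * π m := by rw [h1]
            _ = π c * ((v : G ⧸ K)⁻¹ * π m) := by group
        have hm'D : m' ∈ D := by
          refine hcentre m' fun y => ?_
          rw [← hπ1, map_commutatorElement]
          by_contra hne
          refine hc (hvN _ (hmemE _ _) hne c ?_)
          obtain ⟨d, hd, hde⟩ : ∃ d ∈ Db, π c * π y * (π c)⁻¹ = d * π y :=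
            ⟨⁅π c, π y⁆, hmemE _ _, by rw [commutatorElement_def]; group⟩
          have hdm : π m' * d = d * π m' := hNv m' hm'N d hd
          have hcm : π c * π m' * (π c)⁻¹ = π m' := by rw [← hm'c, mul_inv_cancel_right]
          have he : π c * ⁅π m', π y⁆ * (π c)⁻¹ = ⁅π m', π y⁆ := by
            calc π c * ⁅π m', π y⁆ * (π c)⁻¹ =
                ⁅π c * π m' * (π c)⁻¹, π c * π y * (π c)⁻¹⁆ := by
                  simp only [commutatorElement_def]; group
              _ = π m' * d * π y * (π m')⁻¹ * (π y)⁻¹ * d⁻¹ := by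
                  rw [hcm, hde]; simp only [commutatorElement_def]; group
              _ = d * ⁅π m', π y⁆ * d⁻¹ := by
                  rw [hdm, commutatorElement_def]; group
              _ = _ := by rw [hDbab d hd _ (hmemE _ _), mul_inv_cancel_right]
          exact mul_inv_eq_iff_eq_mul.1 he
        have := D.mul_mem hv0 hm'D
        rwa [hm', mul_inv_cancel_left] at this
      have hQeq : ⁅D.map ρ, D.map ρ⁆ = K.map ρ := by
        rw [← map_commutator]
        refine le_antisymm (map_mono hDD) (map_mono fun u hu => ?_)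
        obtain ⟨d, hd⟩ := isConj_iff.1 (hclass (g * u) (D.mul_mem hgD (hKD hu))
          fun h => hgK ((K.mul_mem_cancel_right hu).1 h))
        have hdD : d ∈ D := by
          rw [← hND, hmemN]
          have h := congrArg π hd
          rw [map_mul, map_mul, map_mul, (hπ1 u).2 hu, mul_one, map_inv, mul_inv_eq_iff_eq_mul] at h
          exact h
        have h2 : ⁅g⁻¹, d⁆ = u := by
          rw [commutatorElement_def, inv_inv,
            show g⁻¹ * d * g * d⁻¹ = g⁻¹ * (d * g * d⁻¹) by group, hd, inv_mul_cancel_left]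
        exact h2 ▸ commutator_mem_commutator (D.inv_mem hgD) hdD
      have hidx : (D.map ρ).index = p ^ n - 1 := by
        rw [index_map, QuotientGroup.ker_mk', sup_eq_left.2 (hRK.trans hKD),
          MonoidHom.range_eq_top.2 hρ, index_top, mul_one, ← hND, hNi]
      obtain ⟨C', hC'⟩ := exists_right_complement'_of_coprime (N := D.map ρ) (by
        obtain ⟨a, ha⟩ := IsPGroup.iff_card.1 hTp
        rw [ha, hidx]
        exact Nat.Coprime.pow_left a ((hp.coprime_iff_not_dvd).2 hpn))
      have hC'card : Nat.card C' = p ^ n - 1 := by rw [← hC'.symm.index_eq_card, hidx]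
      haveI : IsMulCommutative C' := ⟨⟨fun a b => Subtype.ext (by
        have h : ⁅(a : G ⧸ R), (b : G ⧸ R)⁆ ∈ D.map ρ ⊓ C' := by
          refine ⟨?_, Subgroup.mul_mem _ (Subgroup.mul_mem _ (Subgroup.mul_mem _ a.2 b.2) (Subgroup.inv_mem _ a.2)) (Subgroup.inv_mem _ b.2)⟩
          obtain ⟨x, hx⟩ := hρ (a : G ⧸ R)
          obtain ⟨y, hy⟩ := hρ (b : G ⧸ R)
          rw [← hx, ← hy, ← map_commutatorElement]
          exact mem_map_of_mem ρ (commutator_mem_commutator (mem_top _) (mem_top _))
        rw [disjoint_iff.1 hC'.disjoint, mem_bot, commutatorElement_eq_one_iff_mul_comm] at h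
        exact h)⟩⟩
      obtain ⟨x, ⟨x0, hx0, rfl⟩, hxQ, hx⟩ := exists_small_order p (D.map ρ) hTp
        (fun h => hgK ((hmemQ g).1 (hQeq ▸ h.symm ▸ mem_map_of_mem ρ hgD)))
        (by
          intro x hx hxQ u hu
          rw [hQeq] at hxQ hu
          obtain ⟨x0, hx0, rfl⟩ := hx
          obtain ⟨u0, hu0, rfl⟩ := hu
          have hx0K : x0 ∉ K := fun h => hxQ (mem_map_of_mem ρ h)
          obtain ⟨d, hd⟩ := isConj_iff.1 ((hclass x0 hx0 hx0K).symm.trans
            (hclass (x0 * u0) (D.mul_mem hx0 (hKD hu0))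
              fun h => hx0K ((K.mul_mem_cancel_right hu0).1 h)))
          refine ⟨ρ d, mem_map_of_mem ρ ?_, by rw [← map_inv, ← map_mul, ← map_mul, hd, map_mul]⟩
          rw [← hND]
          refine hvN (π x0) (mem_map_of_mem π hx0) (fun h => hx0K ((hπ1 _).1 h)) d ?_
          have h := congrArg π hd
          rw [map_mul, map_mul, map_mul, (hπ1 u0).2 hu0, mul_one, map_inv, mul_inv_eq_iff_eq_mul] at h
          exact h)
        (by
          rintro _ ⟨x, hx, rfl⟩
          rw [hQeq, ← map_pow, hmemQ]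
          exact hDp x hx)
        C' (by
          rw [hQeq, hTQ, hC'card]
          congr 1
          have := Nat.one_le_pow n p hp.pos
          omega)
        (by
          intro c' hc' x hx hxQ h
          rw [hQeq] at hxQ h
          obtain ⟨c0, rfl⟩ := hρ c'
          obtain ⟨x0, hx0, rfl⟩ := hx
          rw [← map_commutatorElement, hmemQ, ← hπ1, map_commutatorElement,
            commutatorElement_eq_one_iff_mul_comm] at h
          have hc0 : c0 ∈ D := hND ▸ hvN (π x0) (mem_map_of_mem π hx0)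
            (fun h' => hxQ (mem_map_of_mem ρ ((hπ1 _).1 h'))) c0 h
          have : ρ c0 ∈ D.map ρ ⊓ C' := ⟨mem_map_of_mem ρ hc0, hc'⟩
          rwa [disjoint_iff.1 hC'.disjoint, mem_bot] at this)
      exact ⟨x0, hx0, fun h => hxQ (hQeq ▸ mem_map_of_mem ρ h), hx.imp id And.right⟩
  -- `R` is solvable
  haveI : Group.IsSolvable R := by
    have hgn : g ∈ normalizer (R : Set G) := by rw [normalizer_eq_top]; exact mem_top g
    rcases hgord with h | h
    · haveI := CfsgLib.Frobenius.Thompson.isNilpotent_of_element R hgn hp h hfree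
      infer_instance
    · let σ : MulAut R := MulAut.conjNormal g
      have hpow : σ ^ 4 = 1 := by
        rw [← map_pow (MulAut.conjNormal (H := R)), h, map_one]
      refine CfsgLib.FpfFour.isSolvable (σ := σ) hpow fun r hr => Subtype.ext (hfree r r.2 ?_)
      have h1 : g * (r : G) * g⁻¹ = r := by
        have := congrArg Subtype.val hr
        rwa [MulAut.conjNormal_apply] at this
      exact mul_inv_eq_iff_eq_mul.1 h1
  haveI : Group.IsSolvable (G ⧸ R) := by
    haveI := hTp.isNilpotent
    haveI : Group.IsSolvable ((G ⧸ R) ⧸ D.map ρ) := Group.isSolvable_of_comm fun a b => by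
      induction a using QuotientGroup.induction_on with
      | H a =>
        induction b using QuotientGroup.induction_on with
        | H b =>
          obtain ⟨x, rfl⟩ := hρ a
          obtain ⟨y, rfl⟩ := hρ b
          rw [← QuotientGroup.mk_mul, ← QuotientGroup.mk_mul, QuotientGroup.eq, ← map_mul, ← map_mul,
            ← map_inv, ← map_mul, hmemT]
          have h1 : ⁅y⁻¹, x⁻¹⁆ ∈ D := commutator_mem_commutator (mem_top _) (mem_top _)
          simpa [commutatorElement_def, mul_assoc] using h1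
    exact Group.isSolvable_of_ker_le_range (D.map ρ).subtype (QuotientGroup.mk' (D.map ρ)) (by simp)
  exact Group.isSolvable_of_ker_le_range R.subtype ρ (by simp [ρ])

end CfsgLib.OneClassDerived
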